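import Cfsg.Agent.Helper16.S3Core

/-!
# Piece FU of helper16's CALL S3805: the involutions `a = φ (sr 0, 1)` and `b = φ (1, sr 0)` of
`N = S₃ × S₃` are not fused in `G`.
-/

set_option autoImplicit false
open Cfsg Cfsg.Agent.Helper16 DihedralGroup
open scoped ComplexConjugate Pointwise

namespace Cfsg.Agent.Helper78

theorem s3fu_model_exp : ∀ n : NM, n ^ 6 = 1 := by decide

theorem s3fu_model_cent :
    ∀ k : NM, k ^ 3 = 1 → k * ((1, sr 0) : NM) = ((1, sr 0) : NM) * k → k.2 = 1 := by decide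

theorem s3fu_model_sq1 : ((r 1, 1) : NM) ^ 2 ≠ 1 := by decide

theorem s3fu_model_sq2 : ((1, r 1) : NM) ^ 2 ≠ 1 := by decide

theorem s3fu_model_cube1 : ((r 1, 1) : NM) ^ 3 = 1 := by decide

theorem s3fu_model_cube2 : ((1, r 1) : NM) ^ 3 = 1 := by decide

theorem s3fu_model_comm1 : ((1, sr 0) : NM) * (r 1, 1) = (r 1, 1) * (1, sr 0) := by decide

theorem s3fu_model_comm2 : ((sr 0, 1) : NM) * (1, r 1) = (1, r 1) * (sr 0, 1) := by decide

theorem s3fu_model_r1 : (r 1 : DihedralGroup 3) ≠ 1 := by decide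

/-- An element `φ n` of `3`-power order has `n ^ 3 = 1`. -/
theorem s3fu_cube {G : Type*} [Group G] {φ : NM →* G} (h : S3Cfg φ) (n : NM) (k : ℕ)
    (hk : (φ n) ^ (3 ^ k) = 1) : n ^ 3 = 1 := by
  have h1 : n ^ (3 ^ k) = 1 := h.inj (by rw [map_pow, hk, map_one])
  have h2 : n ^ 6 = 1 := s3fu_model_exp n
  have h3 : n ^ (Nat.gcd (3 ^ k) 6) = 1 := pow_gcd_eq_one.mpr ⟨h1, h2⟩
  have h4 : Nat.gcd (3 ^ k) 6 ∣ 3 := by
    have hc : Nat.Coprime (Nat.gcd (3 ^ k) 6) 2 := by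
      apply Nat.Coprime.coprime_dvd_left (Nat.gcd_dvd_left _ _)
      exact Nat.Coprime.pow_left k (by norm_num)
    have hd : Nat.gcd (3 ^ k) 6 ∣ 2 * 3 := Nat.gcd_dvd_right _ _
    exact hc.dvd_of_dvd_mul_left hd
  obtain ⟨c, hc⟩ := h4
  have h5 : n ^ 3 = (n ^ (Nat.gcd (3 ^ k) 6)) ^ c := by rw [← pow_mul, ← hc]
  rw [h5, h3, one_pow]

/-- Piece FU of CALL S3805. -/
theorem s3_not_isConj {G : Type*} [Group G] [Finite G] {φ : NM →* G} (h : S3Cfg φ) :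
    ¬ IsConj (φ (sr 0, 1)) (φ (1, sr 0)) := by
  classical
  intro hconj
  obtain ⟨g, hg⟩ := isConj_iff.mp hconj
  have hfact : Fact (Nat.Prime 3) := ⟨by norm_num⟩
  -- the centralizer of `b`
  have ht₁C : φ (r 1, 1) ∈ Subgroup.centralizer ({φ (1, sr 0)} : Set G) := by
    rw [Subgroup.mem_centralizer_iff]
    intro x hx
    rw [Set.mem_singleton_iff] at hx
    subst hx
    rw [← map_mul, ← map_mul, s3fu_model_comm1]
  have hsC : g * φ (1, r 1) * g⁻¹ ∈ Subgroup.centralizer ({φ (1, sr 0)} : Set G) := by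
    rw [Subgroup.mem_centralizer_iff]
    intro x hx
    rw [Set.mem_singleton_iff] at hx
    subst hx
    rw [← hg]
    have hc : φ (sr 0, 1) * φ (1, r 1) = φ (1, r 1) * φ (sr 0, 1) := by
      rw [← map_mul, ← map_mul, s3fu_model_comm2]
    calc g * φ (sr 0, 1) * g⁻¹ * (g * φ (1, r 1) * g⁻¹)
        = g * (φ (sr 0, 1) * φ (1, r 1)) * g⁻¹ := by group
      _ = g * (φ (1, r 1) * φ (sr 0, 1)) * g⁻¹ := by rw [hc]
      _ = g * φ (1, r 1) * g⁻¹ * (g * φ (sr 0, 1) * g⁻¹) := by group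
  set C : Subgroup G := Subgroup.centralizer ({φ (1, sr 0)} : Set G) with hC
  set t₁' : ↥C := ⟨φ (r 1, 1), ht₁C⟩ with ht₁'
  set s' : ↥C := ⟨g * φ (1, r 1) * g⁻¹, hsC⟩ with hs'
  have ht3 : t₁' ^ 3 = 1 := by
    apply Subtype.ext
    rw [Subgroup.coe_pow, Subgroup.coe_one]
    show φ (r 1, 1) ^ 3 = 1
    rw [← map_pow, s3fu_model_cube1, map_one]
  have hs3 : s' ^ 3 = 1 := by
    apply Subtype.ext
    rw [Subgroup.coe_pow, Subgroup.coe_one]
    show (g * φ (1, r 1) * g⁻¹) ^ 3 = 1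
    rw [conj_pow, ← map_pow, s3fu_model_cube2, map_one]
    group
  have hpz : ∀ y : ↥C, y ^ 3 = 1 → IsPGroup 3 (Subgroup.zpowers y) := by
    intro y hy
    rintro ⟨x, hx⟩
    obtain ⟨j, rfl⟩ := Subgroup.mem_zpowers_iff.mp hx
    refine ⟨1, ?_⟩
    apply Subtype.ext
    rw [Subgroup.coe_pow, Subgroup.coe_one]
    show (y ^ j) ^ 3 ^ 1 = 1
    rw [pow_one, ← zpow_natCast, ← zpow_mul, mul_comm, zpow_mul, zpow_natCast, hy, one_zpow]
  obtain ⟨Q, hQ⟩ := (hpz t₁' ht3).exists_le_sylow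
  obtain ⟨Q', hQ'⟩ := (hpz s' hs3).exists_le_sylow
  have ht₁Q : t₁' ∈ Q := hQ (Subgroup.mem_zpowers t₁')
  have hsQ' : s' ∈ Q' := hQ' (Subgroup.mem_zpowers s')
  -- a nontrivial central element of `Q`
  have hnt : Nontrivial ↥(Q : Subgroup ↥C) := by
    refine ⟨⟨⟨t₁', ht₁Q⟩, 1, ?_⟩⟩
    intro h1
    have h2 : (t₁' : G) = 1 := by
      have := congrArg (fun x : ↥(Q : Subgroup ↥C) => ((x : ↥C) : G)) h1
      simpa using this
    have h3 : φ (r 1, 1) = φ 1 := by rw [map_one]; exact h2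
    have h4 := h.inj h3
    have h5 := congrArg Prod.fst h4
    exact s3fu_model_r1 h5
  have hcen := IsPGroup.center_nontrivial (Q.isPGroup')
  obtain ⟨⟨z, hz⟩, hz1⟩ := exists_ne (1 : ↥(Subgroup.center ↥(Q : Subgroup ↥C)))
  have hz1' : ((z : ↥C) : G) ≠ 1 := by
    intro h1
    apply hz1
    apply Subtype.ext
    apply Subtype.ext
    apply Subtype.ext
    simpa using h1
  -- `z` commutes with `t₁`, so lies in `φ.range`
  have hzt : ((z : ↥C) : G) * φ (r 1, 1) = φ (r 1, 1) * ((z : ↥C) : G) := by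
    have h1 := (Subgroup.mem_center_iff.mp hz) ⟨t₁', ht₁Q⟩
    have h2 := congrArg (fun x : ↥(Q : Subgroup ↥C) => ((x : ↥C) : G)) h1
    simp only [Subgroup.coe_mul] at h2
    exact h2.symm
  obtain ⟨n, hn⟩ := h.mem_range_of_commute s3fu_model_sq1 hzt
  obtain ⟨kz, hkz⟩ := Q.isPGroup' z
  have hn3 : n ^ 3 = 1 := by
    apply s3fu_cube h n kz
    rw [hn]
    have := congrArg (fun x : ↥(Q : Subgroup ↥C) => ((x : ↥C) : G)) hkz
    simpa using this
  have hn1 : n ≠ 1 := by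
    intro h1
    apply hz1'
    rw [← hn, h1, map_one]
  have hn2 : n ^ 2 ≠ 1 := by
    intro h2
    apply hn1
    have : n = n ^ 3 * (n ^ 2)⁻¹ := by group
    rw [this, hn3, h2]; simp
  -- every element of `Q` is `φ k` with `k.2 = 1`
  have hQel : ∀ q : ↥C, q ∈ Q → ∃ k : NM, k.2 = 1 ∧ (q : G) = φ k := by
    intro q hq
    have h1 := (Subgroup.mem_center_iff.mp hz) ⟨q, hq⟩
    have h2 := congrArg (fun x : ↥(Q : Subgroup ↥C) => ((x : ↥C) : G)) h1
    simp only [Subgroup.coe_mul] at h2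
    have h3 : (q : G) * φ n = φ n * (q : G) := by rw [hn]; exact h2
    obtain ⟨k, hk⟩ := h.mem_range_of_commute hn2 h3
    refine ⟨k, ?_, hk.symm⟩
    obtain ⟨kq, hkq⟩ := Q.isPGroup' ⟨q, hq⟩
    have hk3 : k ^ 3 = 1 := by
      apply s3fu_cube h k kq
      rw [hk]
      have := congrArg (fun x : ↥(Q : Subgroup ↥C) => ((x : ↥C) : G)) hkq
      simpa using this
    have hqC : (q : G) ∈ Subgroup.centralizer ({φ (1, sr 0)} : Set G) := q.2
    rw [Subgroup.mem_centralizer_iff] at hqC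
    have h4 := hqC (φ (1, sr 0)) (Set.mem_singleton _)
    rw [← hk, ← map_mul, ← map_mul] at h4
    exact s3fu_model_cent k hk3 (h.inj h4).symm
  -- Sylow conjugacy inside `C`
  obtain ⟨c, hc⟩ := MulAction.exists_smul_eq ↥C Q' Q
  have hmem : c * s' * c⁻¹ ∈ Q := by
    have h1 : MulAut.conj c • s' ∈ MulAut.conj c • (Q' : Subgroup ↥C) :=
      Subgroup.smul_mem_pointwise_smul s' (MulAut.conj c) (Q' : Subgroup ↥C) hsQ'
    rw [MulAut.smul_def, MulAut.conj_apply] at h1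
    have h2 : ((c • Q' : Sylow 3 ↥C) : Subgroup ↥C) = MulAut.conj c • (Q' : Subgroup ↥C) :=
      Sylow.coe_subgroup_smul
    rw [← hc]
    show c * s' * c⁻¹ ∈ ((c • Q' : Sylow 3 ↥C) : Subgroup ↥C)
    rw [h2]
    exact h1
  obtain ⟨k, hk2, hk⟩ := hQel _ hmem
  have hk' : ((c : G) * g) * φ (1, r 1) * ((c : G) * g)⁻¹ = φ k := by
    rw [← hk]
    simp only [Subgroup.coe_mul, Subgroup.coe_inv, hs']
    group
  obtain ⟨k', hk''⟩ := h.ti (1, r 1) s3fu_model_sq2 ((c : G) * g) (by rw [hk']; exact ⟨k, rfl⟩)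
  rw [← hk'', ← map_inv, ← map_mul, ← map_mul] at hk'
  have h5 := h.inj hk'
  have h6 := congrArg Prod.snd h5
  rw [hk2] at h6
  have h7 : k'.2 * r 1 * k'.2⁻¹ = 1 := h6
  have h8 : (r 1 : DihedralGroup 3) = 1 := by
    have : (r 1 : DihedralGroup 3) = k'.2⁻¹ * (k'.2 * r 1 * k'.2⁻¹) * k'.2 := by group
    rw [this, h7]; group
  exact s3fu_model_r1 h8

end Cfsg.Agent.Helper78
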