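-- helper78 library: piece G of CALL S5271 (helper85).
import Cfsg.Agent.Helper85.WkDefs
import Cfsg.Agent.Helper85.WkHB
import Cfsg.Agent.Helper78.WkG1
import Cfsg.Agent.Helper86.TateCore
import Cfsg.Agent.Helper84.FusionSeries
import Cfsg.Agent.S5283

set_option autoImplicit false

namespace Cfsg.Agent.Helper78.WkG

open Cfsg Cfsg.FusionSystem Cfsg.Agent.Helper85

variable {Ω : Type*} [Group Ω] {S : Subgroup Ω}

theorem wk_cyclic_hyp [Finite S] {p : ℕ} [Fact p.Prime] (hS : IsPGroup p S) (E : FusionSystem S)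
    (hE : E.IsSaturated p)
    (hinn : ∀ (A : Subgroup Ω), S ≤ A → ∀ ψ ∈ E.Hom A, ∃ g ∈ S, ∀ x : A, ψ x = g * (x : Ω) * g⁻¹)
    (y : Ω) (hy : E.hyperfocalSubgroup p = Subgroup.zpowers y) : E.hyperfocalSubgroup p = ⊥ := by
  have hT : E.StronglyClosed (E.hyperfocalSubgroup p) := Cfsg.Agent.S5124.result p hS E hE
  have hTn : ∀ s ∈ S, ∀ t ∈ E.hyperfocalSubgroup p, s * t * s⁻¹ ∈ E.hyperfocalSubgroup p :=
    fun s hs t ht => hT.2 _ le_rfl (conjHom _ s) (E.conj_mem hT.1 hs) ⟨t, ht⟩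
  obtain ⟨m, c, hc0, hcl, hci, hcs⟩ :=
    Cfsg.Agent.Helper78.WkG1.wk_pchain hS (E.hyperfocalSubgroup p) hT.1 hTn
  have hyS : y ∈ S := hT.1 (by rw [hy]; exact Subgroup.mem_zpowers y)
  -- the terms of the chain are strongly closed
  have hsc : ∀ i, E.StronglyClosed (c i) := by
    intro i
    refine ⟨(hci i).2.1, ?_⟩
    intro R hR φ hφ x
    obtain ⟨s, hs, h⟩ := Cfsg.Agent.Helper86.inner_mod_hyperfocal hS E hE R φ hφ
    have h1 : φ x = (s * (x : Ω) * s⁻¹) * ((s * (x : Ω) * s⁻¹)⁻¹ * φ x) := by group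
    rw [h1]
    exact Subgroup.mul_mem _ ((hci i).2.2 s hs _ (hR x.2)) ((hci i).1 (h x))
  have hnorm : E.IsNormal S := by
    refine Cfsg.Agent.S5283.isNormal_self_of_chain hS hE (Fin.cons ⊥ c) rfl ?_ ?_ ?_
    · have : Fin.last (m + 1) = (Fin.last m).succ := rfl
      rw [this, Fin.cons_succ, hcl]
    · intro i
      refine Fin.cases ?_ (fun j => ?_) i
      · exact Cfsg.Agent.Helper84.stronglyClosed_bot E
      · rw [Fin.cons_succ]
        exact hsc j
    · intro i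
      refine Fin.cases ?_ (fun j => ?_) i
      · have h0 : (0 : Fin (m + 1)).castSucc = (0 : Fin (m + 2)) := rfl
        rw [h0, Fin.cons_zero, Fin.cons_succ, hc0]
        exact ⟨bot_le, y, hyS, by rw [bot_sup_eq, hy]⟩
      · have h1 : j.succ.castSucc = j.castSucc.succ := rfl
        rw [h1, Fin.cons_succ, Fin.cons_succ]
        exact hcs j
  apply wk_hyp_bot_of_inner hS E
  intro P φ hφ
  obtain ⟨ψ, hψ, hext, -⟩ := hnorm.2 P φ hφ
  obtain ⟨g, hg, hgx⟩ := hinn (P ⊔ S) le_sup_right ψ hψ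
  refine ⟨g, hg, fun x => ?_⟩
  rw [← hext x, hgx]
  rfl

end Cfsg.Agent.Helper78.WkG
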