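import Mathlib
import Cfsg.Agent.Helper1.Hall
import Cfsg.Prelude.Def_OddOrder
import Cfsg.Agent.Helper35.HallCoprime

/-!
Pieces HK and HC of CALL S1438 (helper2): Hall containment and Hall conjugacy in a maximal
subgroup of a minimal simple group of odd order.
-/

set_option autoImplicit false

namespace Cfsg.Agent.Helper78

open Cfsg Subgroup

universe u

variable {G : Type u} [Group G] [Finite G]

/-- a `π`-subgroup of `M` has order prime to the `π'`-part of `|M|` -/
theorem bg157_aux_coprime {M : Subgroup G} (π : Set ℕ) {X : Subgroup G} (hXM : X ≤ M)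
    (hX : ∀ p : ℕ, p.Prime → p ∣ Nat.card X → p ∈ π) {n : ℕ}
    (hn : ∀ p : ℕ, p.Prime → p ∈ π → ¬ p ∣ n) :
    (Nat.card (X.subgroupOf M)).Coprime n := by
  rw [Nat.card_congr (Subgroup.subgroupOfEquivOfLe hXM).toEquiv]
  by_contra h
  obtain ⟨p, hp, hpd⟩ := Nat.exists_prime_and_dvd h
  exact hn p hp (hX p hp (hpd.trans (Nat.gcd_dvd_left _ _))) (hpd.trans (Nat.gcd_dvd_right _ _))

/-- HK. Hall containment in the solvable group `M` (`Helper23.uq_isSolvable`,
`Helper35.exists_pi_factorization`, `Helper1.hall_le_aux`; compare `Helper1.bgs_exists_hall`). -/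
theorem bg157_hall_contains (hG : IsMinSimpleOddOrder G) {M : Subgroup G} (hM : IsCoatom M)
    (π : Set ℕ) {X : Subgroup G} (hXM : X ≤ M)
    (hX : ∀ p : ℕ, p.Prime → p ∣ Nat.card X → p ∈ π) :
    ∃ K : Subgroup G, IsPiHallOf π K M ∧ X ≤ K := by
  classical
  have : Group.IsSolvable M := hG.2.2.2 M hM.1
  obtain ⟨m, n, hmn, hcop, hm, hn⟩ :=
    Cfsg.Agent.Helper35.exists_pi_factorization π (Nat.card M) Nat.card_pos.ne'
  have hXn := bg157_aux_coprime π hXM hX hn
  obtain ⟨H, hH, hle⟩ := Cfsg.Agent.Helper1.hall_le_aux (Nat.card M) M m n rfl hmn hcop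
    (X.subgroupOf M) hXn
  refine ⟨H.map M.subtype, ?_, ?_⟩
  · rw [Cfsg.Agent.Helper35.isPiHallOf_iff_card hmn hm hn]
    refine ⟨Subgroup.map_subtype_le H, ?_⟩
    rw [← hH]
    exact Nat.card_congr (Subgroup.equivMapOfInjective H M.subtype M.subtype_injective).symm.toEquiv
  · intro x hx
    exact ⟨⟨x, hXM hx⟩, hle (Subgroup.mem_subgroupOf.mpr hx), rfl⟩

end Cfsg.Agent.Helper78
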