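import Mathlib
import Cfsg.Prelude.Def_OddOrderLocal

/-!
Piece CNIL of CALL S1356 (helper99): a subgroup of `M'` centralizing `M_F` is nilpotent.
-/

set_option autoImplicit false
set_option linter.unusedSectionVars false

namespace Cfsg.Agent.Helper78

open Cfsg Subgroup

universe u

variable {G : Type u} [Group G] [Finite G]

/-- CNIL [M]. A subgroup `C ≤ M'` centralizing `M_F` is nilpotent. -/
theorem bg56_cent_nil {M C : Subgroup G}
    (hnil : Group.IsNilpotent ↥((commutator ↥M).map (QuotientGroup.mk' (Cfsg.fittingHall ↥M))))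
    (hCM : C ≤ ⁅M, M⁆) (hCc : C ≤ centralizer (fittingHallOf M : Set G)) :
    Group.IsNilpotent ↥C := by
  have hMM : ⁅M, M⁆ ≤ M := by
    rw [Subgroup.commutator_le]
    intro a ha b hb
    exact M.mul_mem (M.mul_mem (M.mul_mem ha hb) (M.inv_mem ha)) (M.inv_mem hb)
  have hCM' : C ≤ M := hCM.trans hMM
  have hmem : ∀ c (hc : c ∈ C), (⟨c, hCM' hc⟩ : ↥M) ∈ commutator ↥M := by
    intro c hc
    have h1 := hCM hc
    rw [← Subgroup.map_subtype_commutator] at h1
    obtain ⟨y, hy, hyc⟩ := h1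
    have : y = ⟨c, hCM' hc⟩ := Subtype.ext hyc
    rw [← this]; exact hy
  obtain ⟨f0, hf0⟩ : ∃ f0 : ↥C →* ↥M ⧸ Cfsg.fittingHall ↥M, ∀ c : ↥C,
      f0 c = QuotientGroup.mk' (Cfsg.fittingHall ↥M) ⟨c.1, hCM' c.2⟩ :=
    ⟨(QuotientGroup.mk' (Cfsg.fittingHall ↥M)).comp (Subgroup.inclusion hCM'), fun c => rfl⟩
  have hf0mem : ∀ c : ↥C,
      f0 c ∈ (commutator ↥M).map (QuotientGroup.mk' (Cfsg.fittingHall ↥M)) := by
    intro c
    rw [hf0]
    exact Subgroup.mem_map_of_mem _ (hmem c.1 c.2)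
  have := hnil
  apply Subgroup.isNilpotent_of_ker_le_center (f0.codRestrict _ hf0mem)
  intro c hc
  rw [MonoidHom.mem_ker] at hc
  have h1 : f0 c = 1 := by
    have := congrArg Subtype.val hc
    simpa using this
  rw [hf0] at h1
  have h2 : (⟨c.1, hCM' c.2⟩ : ↥M) ∈ Cfsg.fittingHall ↥M := by
    rw [← QuotientGroup.eq_one_iff]; exact h1
  have h3 : (c : G) ∈ fittingHallOf M := ⟨_, h2, rfl⟩
  rw [Subgroup.mem_center_iff]
  intro d
  apply Subtype.ext
  have h4 := Subgroup.mem_centralizer_iff.mp (hCc d.2) (c : G) h3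
  exact h4.symm

end Cfsg.Agent.Helper78
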