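import Mathlib
import Cfsg.Prelude.Def_OddOrderLocal
import Cfsg.Agent.Helper25.CN

/-!
Piece FIT of CALL S1356 (helper99): a nilpotent subgroup over a normal Hall subgroup `H` lies in `C_M(H) H`.
-/

set_option autoImplicit false
set_option linter.unusedSectionVars false

namespace Cfsg.Agent.Helper78

open Cfsg Subgroup

universe u

variable {G : Type u} [Group G] [Finite G]

/-- FIT [S-M, PURE]. A nilpotent `F` with `H ≤ F ≤ M`, `H` a normal Hall subgroup of `M`, lies in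
`C_M(H) H`. -/
theorem bg56_fit_le {M H F : Subgroup G} (hHF : H ≤ F) (hFM : F ≤ M)
    (hHn : M ≤ normalizer (H : Set G)) (hF : Group.IsNilpotent ↥F)
    (hcop : (Nat.card H).Coprime (H.relIndex M)) :
    F ≤ (M ⊓ centralizer (H : Set G)) ⊔ H := by
  intro x hx
  obtain ⟨n, hn⟩ : ∃ n, n = Nat.card H := ⟨_, rfl⟩
  obtain ⟨m, hm⟩ : ∃ m, m = H.relIndex F := ⟨_, rfl⟩
  have hmdvd : m ∣ H.relIndex M := by
    rw [hm, ← Subgroup.relIndex_mul_relIndex H F M hHF hFM]; exact dvd_mul_right _ _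
  have hnm : Nat.Coprime n m := by rw [hn]; exact Nat.Coprime.coprime_dvd_right hmdvd hcop
  have hxm : x ^ m ∈ H := by
    have hnorm : (H.subgroupOf F).Normal :=
      (Subgroup.normal_subgroupOf_iff_le_normalizer hHF).mpr (hFM.trans hHn)
    have h1 := Subgroup.pow_index_mem (H.subgroupOf F) (⟨x, hx⟩ : ↥F)
    rw [Subgroup.mem_subgroupOf] at h1
    rw [hm]; exact h1
  have hxmn : (x ^ m) ^ n = 1 := by
    have h1 : (⟨x ^ m, hxm⟩ : ↥H) ^ Nat.card ↥H = 1 := pow_card_eq_one'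
    rw [← hn] at h1
    have := congrArg Subtype.val h1
    simpa using this
  have hbez : (1 : ℤ) = n * Nat.gcdA n m + m * Nat.gcdB n m := by
    have := Nat.gcd_eq_gcd_ab n m
    rw [Nat.Coprime.gcd_eq_one hnm] at this
    exact_mod_cast this
  obtain ⟨a, ha⟩ : ∃ a : ℤ, a = Nat.gcdA n m := ⟨_, rfl⟩
  obtain ⟨b, hb⟩ : ∃ b : ℤ, b = Nat.gcdB n m := ⟨_, rfl⟩
  rw [← ha, ← hb] at hbez
  have hxdec : x = (x ^ n) ^ a * (x ^ m) ^ b := by
    rw [← zpow_natCast x n, ← zpow_natCast x m, ← zpow_mul, ← zpow_mul, ← zpow_add, ← hbez,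
      zpow_one]
  have hzm : ((x ^ n) ^ a) ^ m = 1 := by
    rw [← zpow_natCast ((x ^ n) ^ a) m, ← zpow_mul, mul_comm, zpow_mul, zpow_natCast,
      ← pow_mul, mul_comm, pow_mul, hxmn, one_zpow]
  have hzF : (x ^ n) ^ a ∈ F := F.zpow_mem (F.pow_mem hx n) a
  have hzc : (x ^ n) ^ a ∈ centralizer (H : Set G) := by
    rw [Subgroup.mem_centralizer_iff]
    intro h hh
    have ho1 : orderOf ((x ^ n) ^ a) ∣ m := orderOf_dvd_of_pow_eq_one hzm
    have ho2 : orderOf h ∣ n := by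
      have h5 : orderOf (⟨h, hh⟩ : ↥H) ∣ Nat.card ↥H := orderOf_dvd_natCard _
      rw [← hn, Subgroup.orderOf_mk] at h5
      exact h5
    have hc : (orderOf ((x ^ n) ^ a)).Coprime (orderOf h) :=
      Nat.Coprime.coprime_dvd_left ho1 (Nat.Coprime.coprime_dvd_right ho2 hnm.symm)
    have := Cfsg.Agent.Helper25.commute_of_coprime_of_mem_nilpotent F hF hzF (hHF hh) hc
    exact this.eq.symm
  rw [hxdec]
  exact Subgroup.mul_mem_sup ⟨hFM hzF, hzc⟩ (H.zpow_mem hxm b)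

end Cfsg.Agent.Helper78
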