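import Mathlib
import Cfsg.Prelude.Def_OddOrderLocal

/-!
Piece FPF of CALL S1356 (helper99): fixed-point-free action on the complement.
-/

set_option autoImplicit false
set_option linter.unusedSectionVars false

namespace Cfsg.Agent.Helper78

open Cfsg Subgroup

universe u

variable {G : Type u} [Group G] [Finite G]

/-- FPF [S-M, PURE]. `K` of prime order acts fixed-point-freely on the complement `D`. -/
theorem bg56_fpf {S Q D K : Subgroup G} {q : ℕ} (hD : IsComplIn Q D S) (hQi : ¬ q ∣ Q.relIndex S)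
    (hKs : Nat.card ↥(S ⊓ centralizer (K : Set G)) = q) (hq : q.Prime) (hKp : (Nat.card K).Prime) :
    ∀ r ∈ K, r ≠ 1 → D ⊓ centralizer ({r} : Set G) = ⊥ := by
  intro r hr hr1
  obtain ⟨hQS, hDS, hQD, hprod⟩ := hD
  have hcard : Nat.card S = Nat.card Q * Nat.card D := by
    have hbij : Function.Bijective (fun p : ↥Q × ↥D =>
        (⟨(p.1 : G) * (p.2 : G), S.mul_mem (hQS p.1.2) (hDS p.2.2)⟩ : ↥S)) := by
      constructor
      · rintro ⟨a, b⟩ ⟨a', b'⟩ h
        have h1 : (a : G) * b = a' * b' := congrArg Subtype.val h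
        have h2 : (a' : G)⁻¹ * a = b' * (b : G)⁻¹ := by
          calc (a' : G)⁻¹ * a = (a' : G)⁻¹ * ((a : G) * b) * (b : G)⁻¹ := by group
            _ = (a' : G)⁻¹ * ((a' : G) * b') * (b : G)⁻¹ := by rw [h1]
            _ = b' * (b : G)⁻¹ := by group
        have h3 : (a' : G)⁻¹ * a ∈ Q ⊓ D :=
          ⟨Q.mul_mem (Q.inv_mem a'.2) a.2, h2 ▸ D.mul_mem b'.2 (D.inv_mem b.2)⟩
        rw [hQD, Subgroup.mem_bot] at h3
        have ha : (a : G) = a' := (inv_mul_eq_one.mp h3).symm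
        have hb : (b : G) = b' := by
          rw [ha] at h1
          exact mul_left_cancel h1
        exact Prod.ext (Subtype.ext ha) (Subtype.ext hb)
      · rintro ⟨s, hs⟩
        obtain ⟨a, ha, b, hb, rfl⟩ := hprod s hs
        exact ⟨(⟨a, ha⟩, ⟨b, hb⟩), rfl⟩
    rw [← Nat.card_prod]
    exact (Nat.card_congr (Equiv.ofBijective _ hbij)).symm
  have hrel : Q.relIndex S = Nat.card D := by
    have h3 := (Q.subgroupOf S).card_mul_index
    rw [Nat.card_congr (Subgroup.subgroupOfEquivOfLe hQS).toEquiv, hcard] at h3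
    exact Nat.eq_of_mul_eq_mul_left Nat.card_pos h3
  have hKr : ∀ k ∈ K, ∃ n : ℤ, r ^ n = k := by
    intro k hk
    have : Fact (Nat.card K).Prime := ⟨hKp⟩
    have h1 : Subgroup.zpowers (⟨r, hr⟩ : ↥K) = ⊤ :=
      zpowers_eq_top_of_prime_card (p := Nat.card K) rfl (fun h => hr1 (congrArg Subtype.val h))
    have h2 : (⟨k, hk⟩ : ↥K) ∈ Subgroup.zpowers (⟨r, hr⟩ : ↥K) := by rw [h1]; trivial
    obtain ⟨n, hn⟩ := h2
    refine ⟨n, ?_⟩
    have := congrArg Subtype.val hn
    simpa using this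
  by_contra hne
  have hYX : D ⊓ centralizer ({r} : Set G) ≤ S ⊓ centralizer (K : Set G) := by
    intro x hx
    obtain ⟨hxD, hxr⟩ := Subgroup.mem_inf.mp hx
    refine Subgroup.mem_inf.mpr ⟨hDS hxD, ?_⟩
    rw [Subgroup.mem_centralizer_iff]
    intro k hk
    obtain ⟨n, rfl⟩ := hKr k hk
    have h1 : x * r = r * x := Subgroup.mem_centralizer_singleton_iff.mp hxr
    have h2 : Commute r x := h1.symm
    exact (h2.zpow_left n).eq
  have h1 : Nat.card ↥(D ⊓ centralizer ({r} : Set G)) ∣ q := hKs ▸ Subgroup.card_dvd_of_le hYX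
  have h2 : Nat.card ↥(D ⊓ centralizer ({r} : Set G)) ≠ 1 :=
    fun h => hne (Subgroup.card_eq_one.mp h)
  have h3 : Nat.card ↥(D ⊓ centralizer ({r} : Set G)) = q :=
    ((Nat.dvd_prime hq).mp h1).resolve_left h2
  have h4 : q ∣ Nat.card D := h3 ▸ Subgroup.card_dvd_of_le inf_le_left
  exact hQi (hrel ▸ h4)

end Cfsg.Agent.Helper78
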