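import Cfsg.Agent.Helper23.FittingHall
import Cfsg.Agent.Helper71.Fitting
import Cfsg.Agent.Helper25.CN3

/-!
Piece MFB of CALL S1356 (helper99, skeleton `BG56Skel`): basic facts on `M_F = fittingHallOf M`.
-/

set_option autoImplicit false

namespace Cfsg.Agent.Helper78

open Cfsg Subgroup

universe u

variable {G : Type u} [Group G] [Finite G]

/-- `M_F` (inside `↥M`) is nilpotent: it lies in the Fitting subgroup. -/
theorem bg56_fittingHall_isNilpotent (X : Type u) [Group X] [Finite X] :
    Group.IsNilpotent ↥(fittingHall X) := by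
  apply Cfsg.Agent.Helper25.isNilpotent_of_le (M := fittingSubgroup X) _
    (Cfsg.Agent.Helper71.fittingSubgroup_isNilpotent X)
  apply sSup_le_sSup
  rintro K ⟨hKn, hKnil, -⟩
  exact ⟨hKn, hKnil⟩

/-- MFB. Basic facts on `M_F = (fittingHall ↥M).map M.subtype`: inside `M`, normalized by `M`,
nilpotent, Hall in `M`, and Hall in every `S` between. -/
theorem bg56_MF_basic (M : Subgroup G) :
    fittingHallOf M ≤ M ∧ M ≤ normalizer (fittingHallOf M : Set G) ∧
      Group.IsNilpotent ↥(fittingHallOf M) ∧
      (Nat.card (fittingHallOf M)).Coprime ((fittingHallOf M).relIndex M) ∧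
      ∀ S : Subgroup G, S ≤ M → fittingHallOf M ≤ S →
        (Nat.card (fittingHallOf M)).Coprime ((fittingHallOf M).relIndex S) := by
  have hle : fittingHallOf M ≤ M := by
    unfold fittingHallOf
    exact Subgroup.map_subtype_le _
  have hcop : (Nat.card (fittingHallOf M)).Coprime ((fittingHallOf M).relIndex M) := by
    have h := Cfsg.Agent.Helper23.fittingHall_coprime ↥M
    have e1 : Nat.card (fittingHallOf M) = Nat.card (fittingHall ↥M) := by
      unfold fittingHallOf
      exact Nat.card_congr
        (Subgroup.equivMapOfInjective _ M.subtype M.subtype_injective).symm.toEquiv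
    have e2 : (fittingHallOf M).relIndex M = (fittingHall ↥M).index := by
      unfold fittingHallOf Subgroup.relIndex
      rw [Subgroup.subgroupOf, Subgroup.comap_map_eq_self_of_injective M.subtype_injective]
    rw [e1, e2]
    exact h
  refine ⟨hle, ?_, ?_, hcop, ?_⟩
  · intro m hm
    rw [Subgroup.mem_normalizer_iff]
    intro x
    unfold fittingHallOf
    constructor
    · rintro ⟨y, hy, rfl⟩
      refine ⟨(⟨m, hm⟩ : ↥M) * y * (⟨m, hm⟩ : ↥M)⁻¹, ?_, by simp⟩
      exact (fittingHall_normal ↥M).conj_mem y hy _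
    · rintro ⟨y, hy, hyx⟩
      refine ⟨(⟨m, hm⟩ : ↥M)⁻¹ * y * (⟨m, hm⟩ : ↥M), ?_, ?_⟩
      · have := (fittingHall_normal ↥M).conj_mem y hy (⟨m, hm⟩ : ↥M)⁻¹
        simpa using this
      · have h2 : ((y : ↥M) : G) = m * x * m⁻¹ := hyx
        simp only [Subgroup.coe_subtype, Subgroup.coe_mul, Subgroup.coe_inv, h2]
        group
  · haveI := bg56_fittingHall_isNilpotent ↥M
    unfold fittingHallOf
    exact Group.nilpotent_of_mulEquiv
      (Subgroup.equivMapOfInjective (fittingHall ↥M) M.subtype M.subtype_injective)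
  · intro S hSM hFS
    have hd : (fittingHallOf M).relIndex S ∣ (fittingHallOf M).relIndex M :=
      Dvd.intro _ (Subgroup.relIndex_mul_relIndex _ S M hFS hSM)
    exact Nat.Coprime.coprime_dvd_right hd hcop

end Cfsg.Agent.Helper78
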