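-- helper78 library: piece C4 of CALL S5707 (helper96).
import Cfsg.Agent.Helper96.CWDefs

set_option autoImplicit false
set_option linter.unusedSectionVars false
set_option linter.unusedSimpArgs false
set_option linter.unusedVariables false

namespace Cfsg.Agent.Helper78.CWC4

open Matrix Cfsg Cfsg.Geo Cfsg.Agent.Helper96 Cfsg.Agent.Helper96.CW

section
variable {F : Type*} [Field F] {k t : ℕ}

theorem c4_g4_mulVec (y : Fin 4 → F) : G4 F *ᵥ y = ![y 3, y 2, y 1, y 0] := by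
  ext i
  fin_cases i <;> simp [G4, Matrix.mulVec, dotProduct, Fin.sum_univ_four]

theorem c4_g4_dm_apply (x y : Fin 4 → F) (a b : Fin 4) :
    T5.dm (G4 F) x y a b = x a * ![y 3, y 2, y 1, y 0] b - y a * ![x 3, x 2, x 1, x 0] b := by
  simp only [T5.dm, T5.rk, Matrix.sub_apply, Matrix.vecMulVec_apply, c4_g4_mulVec]

theorem c4_g4_bf (x y : Fin 4 → F) :
    T5.bf (G4 F) x y = x 0 * y 3 + x 1 * y 2 + x 2 * y 1 + x 3 * y 0 := by
  simp only [T5.bf, c4_g4_mulVec, dotProduct, Fin.sum_univ_four]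
  simp

/-- PIECE C4: Clifford relations for `k = 4`. -/
theorem c4 (h2 : (2 : F) = 0) (W : Matrix (Fin 4) (Fin 4) F) (hW : W ∈ SD (G4 F)) :
    (∃ l : F, Ca F * W + W * Ca F = l • (1 : Matrix (Fin 4) (Fin 4) F)) ∧
    (∃ l : F, Cb F * W + W * Cb F = l • (1 : Matrix (Fin 4) (Fin 4) F)) := by
  obtain ⟨x, y, hbf, rfl⟩ := hW
  rw [c4_g4_bf] at hbf
  constructor
  · refine ⟨x 0 * y 1 - y 0 * x 1, ?_⟩
    ext i j
    simp only [Matrix.add_apply, Matrix.mul_apply, Fin.sum_univ_four, c4_g4_dm_apply,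
      Matrix.smul_apply, Matrix.one_apply, smul_eq_mul]
    fin_cases i <;> fin_cases j <;> simp [Ca] <;> grind
  · refine ⟨x 0 * y 2 - y 0 * x 2, ?_⟩
    ext i j
    simp only [Matrix.add_apply, Matrix.mul_apply, Fin.sum_univ_four, c4_g4_dm_apply,
      Matrix.smul_apply, Matrix.one_apply, smul_eq_mul]
    fin_cases i <;> fin_cases j <;> simp [Cb] <;> grind

end

end Cfsg.Agent.Helper78.CWC4
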