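-- helper78 library: piece S4M of CALL S5707 (helper96).
import Cfsg.Agent.Helper96.CWDefs

set_option autoImplicit false
set_option linter.unusedSectionVars false
set_option linter.unusedSimpArgs false
set_option linter.unusedVariables false

namespace Cfsg.Agent.Helper78.CWS4M

open Matrix Cfsg Cfsg.Geo Cfsg.Agent.Helper96 Cfsg.Agent.Helper96.CW

section
variable {F : Type*} [Field F] {k t : ℕ}

theorem s4m_g4_mulVec (y : Fin 4 → F) : G4 F *ᵥ y = ![y 3, y 2, y 1, y 0] := by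
  ext i
  fin_cases i <;> simp [G4, Matrix.mulVec, dotProduct, Fin.sum_univ_four]

theorem s4m_g4_dm_apply (x y : Fin 4 → F) (a b : Fin 4) :
    T5.dm (G4 F) x y a b = x a * ![y 3, y 2, y 1, y 0] b - y a * ![x 3, x 2, x 1, x 0] b := by
  simp only [T5.dm, T5.rk, Matrix.sub_apply, Matrix.vecMulVec_apply, s4m_g4_mulVec]

theorem s4m_g4_bf (x y : Fin 4 → F) :
    T5.bf (G4 F) x y = x 0 * y 3 + x 1 * y 2 + x 2 * y 1 + x 3 * y 0 := by
  simp only [T5.bf, s4m_g4_mulVec, dotProduct, Fin.sum_univ_four]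
  simp

/-- PIECE S4M: the Clifford generators for `k = 4` are of the form `dm`. -/
theorem s4m (h2 : (2 : F) = 0) : Ca F ∈ SD (G4 F) ∧ Cb F ∈ SD (G4 F) ∧ Aa F ∈ SD (G4 F) := by
  have h11 : (1 : F) + 1 = 0 := by rw [one_add_one_eq_two]; exact h2
  have hneg : (-1 : F) = 1 := by linear_combination -h11
  refine ⟨⟨![0, 0, 1, 0], ![0, 0, 0, 1], ?_, ?_⟩, ⟨![0, 1, 0, 0], ![0, 0, 0, 1], ?_, ?_⟩,
    ⟨![1, 0, 0, 0], ![0, 1, 0, 0], ?_, ?_⟩⟩
  · rw [s4m_g4_bf]; simp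
  · ext i j
    rw [s4m_g4_dm_apply]
    fin_cases i <;> fin_cases j <;> simp [Ca, hneg]
  · rw [s4m_g4_bf]; simp
  · ext i j
    rw [s4m_g4_dm_apply]
    fin_cases i <;> fin_cases j <;> simp [Cb, hneg]
  · rw [s4m_g4_bf]; simp
  · ext i j
    rw [s4m_g4_dm_apply]
    fin_cases i <;> fin_cases j <;> simp [Aa, hneg]

end

end Cfsg.Agent.Helper78.CWS4M
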