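import Cfsg.Agent.Helper81.SectionSum
import Cfsg.Agent.Helper77.BlockRank
import Cfsg.Agent.Helper77.BrauerPair
import Cfsg.Agent.Helper16.BrauerInd
import Cfsg.Agent.Helper16.BlockPart

/-!
# Orthogonality of generalized decomposition numbers (character form)

* `section_fourier`: for a `p`-element `z` with centralizer `C`, a class function `Ψ` on `C`
  vanishing on the `p`-singular elements and a `p`-regular `y' ∈ C`:
  `Σ_{χ ∈ Irr G} conj χ(z y') Σ_{c ∈ C} Ψ(c) χ(z c) = |C| Ψ(y')`.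
* `sum_blockPart_section`: `Σ_{χ ∈ Irr G} (ϑ_χ)_e(s) (ϑ'_χ)_e(s⁻¹) = Σ_{ψ ∈ e} ψ(s) conj ψ(s)` for
  a block `e` of `C` and `p`-regular `s`.
* `genDecomp_orthogonality`: the sum over `χ ∈ B`, `s ∈ C` `p`-regular, is `|C| l(e)` when `e`
  induces `B`.
-/

set_option autoImplicit false
open Cfsg
open scoped ComplexConjugate

namespace Cfsg.Agent.Helper78

universe u

variable {G : Type u} [Group G] [Fintype G]

/-- Fourier identity on the `p`-section of `z`. -/
theorem section_fourier {p : ℕ} [Fact p.Prime] (z : G) (hz : ∃ k : ℕ, orderOf z = p ^ k)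
    [Fintype (Subgroup.centralizer ({z} : Set G))] [Fintype (Cfsg.IrrCharacter G)]
    (Ψ : Subgroup.centralizer ({z} : Set G) → ℂ)
    (hΨcl : ∀ c d : Subgroup.centralizer ({z} : Set G), Ψ (d * c * d⁻¹) = Ψ c)
    (hΨ0 : ∀ c : Subgroup.centralizer ({z} : Set G), p ∣ orderOf c → Ψ c = 0)
    (y' : Subgroup.centralizer ({z} : Set G)) (hy' : ¬ p ∣ orderOf y') :
    ∑ ψ : Cfsg.IrrCharacter G, conj ((ψ : G → ℂ) (z * (y' : G))) *
        ∑ c : Subgroup.centralizer ({z} : Set G), Ψ c * (ψ : G → ℂ) (z * (c : G))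
      = (Nat.card (Subgroup.centralizer ({z} : Set G)) : ℂ) * Ψ y' := by
  classical
  have hcomm : ∀ c : Subgroup.centralizer ({z} : Set G), z * (c : G) = (c : G) * z :=
    fun c => Subgroup.mem_centralizer_iff.mp c.2 z rfl
  have hfour := Helper16.sum_conj_eq_sum_irr
    (Helper16.ext0 (Subgroup.centralizer ({z} : Set G)) Ψ) (z * (y' : G))⁻¹ z
  have hR : ∑ ψ : Cfsg.IrrCharacter G, (ψ : G → ℂ) (z * (y' : G))⁻¹ *
      ∑ x : G, Helper16.ext0 (Subgroup.centralizer ({z} : Set G)) Ψ x * (ψ : G → ℂ) (z * x)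
      = ∑ ψ : Cfsg.IrrCharacter G, conj ((ψ : G → ℂ) (z * (y' : G))) *
        ∑ c : Subgroup.centralizer ({z} : Set G), Ψ c * (ψ : G → ℂ) (z * (c : G)) := by
    refine Finset.sum_congr rfl fun ψ _ => ?_
    rw [Helper16.sum_ext0_mul (Subgroup.centralizer ({z} : Set G)) Ψ
      (fun x => (ψ : G → ℂ) (z * x)), Helper77.irr_inv]
  have hL : ∑ γ : G, Helper16.ext0 (Subgroup.centralizer ({z} : Set G)) Ψ
      (z⁻¹ * γ⁻¹ * ((z * (y' : G))⁻¹)⁻¹ * γ)
      = (Nat.card (Subgroup.centralizer ({z} : Set G)) : ℂ) * Ψ y' := by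
    have h1 : ∀ γ : G, Helper16.ext0 (Subgroup.centralizer ({z} : Set G)) Ψ
        (z⁻¹ * γ⁻¹ * ((z * (y' : G))⁻¹)⁻¹ * γ)
        = Helper16.ext0 (Subgroup.centralizer ({z} : Set G)) (fun _ => Ψ y') γ := by
      intro γ
      rw [inv_inv]
      by_cases hγ : γ ∈ Subgroup.centralizer ({z} : Set G)
      · rw [Helper16.ext0_apply_mem _ _ hγ]
        have hc := hcomm ⟨γ, hγ⟩
        have hc' : γ⁻¹ * z = z * γ⁻¹ := by
          have h5 : z * γ = γ * z := hc
          calc γ⁻¹ * z = γ⁻¹ * (z * γ) * γ⁻¹ := by group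
            _ = γ⁻¹ * (γ * z) * γ⁻¹ := by rw [h5]
            _ = z * γ⁻¹ := by group
        have e : z⁻¹ * γ⁻¹ * (z * (y' : G)) * γ
            = (((⟨γ, hγ⟩ : Subgroup.centralizer ({z} : Set G))⁻¹ * y'
                * ((⟨γ, hγ⟩ : Subgroup.centralizer ({z} : Set G))⁻¹)⁻¹ :
                Subgroup.centralizer ({z} : Set G)) : G) := by
          simp only [Subgroup.coe_mul, Subgroup.coe_inv, inv_inv]
          calc z⁻¹ * γ⁻¹ * (z * (y' : G)) * γ = z⁻¹ * (γ⁻¹ * z) * (y' : G) * γ := by group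
            _ = z⁻¹ * (z * γ⁻¹) * (y' : G) * γ := by rw [hc']
            _ = γ⁻¹ * (y' : G) * γ := by group
        rw [e, Helper16.ext0_apply_coe, hΨcl]
      · rw [Helper16.ext0_apply_not_mem _ _ hγ]
        by_cases hc : z⁻¹ * γ⁻¹ * (z * (y' : G)) * γ ∈ Subgroup.centralizer ({z} : Set G)
        · rw [Helper16.ext0_apply_mem _ _ hc]
          apply hΨ0
          by_contra hnd
          apply hγ
          have hpp1 : Cfsg.IsPPart p (z * (z⁻¹ * γ⁻¹ * (z * (y' : G)) * γ)) z :=
            Helper16.isPPart_mul (hcomm ⟨_, hc⟩) hz (by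
              rw [← Subgroup.orderOf_coe] at hnd; exact hnd)
          have hpp2 : Cfsg.IsPPart p (z * (y' : G)) z :=
            Helper16.isPPart_mul (hcomm y') hz (by rw [Subgroup.orderOf_coe]; exact hy')
          have hpp3 := Helper16.isPPart_conj hpp2 γ⁻¹
          have e1 : z * (z⁻¹ * γ⁻¹ * (z * (y' : G)) * γ) = γ⁻¹ * (z * (y' : G)) * γ⁻¹⁻¹ := by
            group
          rw [e1] at hpp1
          have e2 := Helper16.isPPart_unique hpp1 hpp3
          rw [Subgroup.mem_centralizer_iff]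
          intro s hs
          rw [Set.mem_singleton_iff] at hs
          rw [hs]
          calc z * γ = γ * (γ⁻¹ * z * γ⁻¹⁻¹) := by group
            _ = γ * z := by rw [← e2]
        · rw [Helper16.ext0_apply_not_mem _ _ hc]
    simp only [h1]
    have h2 := Helper16.sum_ext0_mul (Subgroup.centralizer ({z} : Set G))
      (fun _ : Subgroup.centralizer ({z} : Set G) => Ψ y') (fun _ => (1 : ℂ))
    simp only [mul_one] at h2
    rw [h2, Finset.sum_const, Finset.card_univ, nsmul_eq_mul, Nat.card_eq_fintype_card]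
  rw [← hR, ← hfour, hL]

omit [Fintype G] in
/-- The induced block is unique. -/
theorem isInducedBlock_unique [Finite G] {M : Ideal Cfsg.AlgInt} (hM : M.IsMaximal) {H : Subgroup G}
    {b : Set (Cfsg.IrrCharacter H)} {B B' : Set (Cfsg.IrrCharacter G)}
    (h : Cfsg.IsInducedBlock M H b B) (h' : Cfsg.IsInducedBlock M H b B') : B = B' := by
  classical
  have := Fintype.ofFinite G
  have := Fintype.ofFinite H
  obtain ⟨ξ, hξ⟩ := Helper16.exists_mem_of_isPBlock hM h.1
  obtain ⟨χ₁, hχ₁⟩ := Helper16.exists_mem_of_isPBlock hM h.2.1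
  obtain ⟨χ₂, hχ₂⟩ := Helper16.exists_mem_of_isPBlock hM h'.2.1
  have hsame : Cfsg.SameBlock M (χ₁ : G → ℂ) (χ₂ : G → ℂ) := by
    intro g
    have h1 := h.2.2 ξ hξ χ₁ hχ₁ g
    have h2 := h'.2.2 ξ hξ χ₂ hχ₂ g
    have h3 := Helper77.memLocalIdeal_sub hM h2 h1
    have e : Cfsg.inducedCentralChar H (ξ : H → ℂ) g - Cfsg.centralChar (χ₂ : G → ℂ) g
        - (Cfsg.inducedCentralChar H (ξ : H → ℂ) g - Cfsg.centralChar (χ₁ : G → ℂ) g)
        = Cfsg.centralChar (χ₁ : G → ℂ) g - Cfsg.centralChar (χ₂ : G → ℂ) g := by ring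
    rwa [e] at h3
  have h4 : χ₂ ∈ B := by
    rw [Helper16.eq_blockOf_of_mem hM h.2.1 hχ₁]
    exact hsame
  exact Helper77.block_eq_of_mem hM h.2.1 h'.2.1 h4 hχ₂

/-- Section orthogonality for block parts: for a block `e` of `C = C_G(z)` and a `p`-regular
`s ∈ C`, the sum over all irreducible characters `χ` of `G` of the `e`-part of `c ↦ χ(z c)` at
`s` times the `e`-part of `c ↦ χ(z⁻¹ c)` at `s⁻¹` is `Σ_{ψ ∈ e} ψ(s) conj ψ(s)`. -/
theorem sum_blockPart_section {p : ℕ} [Fact p.Prime] {M : Ideal Cfsg.AlgInt}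
    (hM : Cfsg.IsPModular p M) (z : G) (hz : ∃ k : ℕ, orderOf z = p ^ k)
    (e : Set (Cfsg.IrrCharacter (Subgroup.centralizer ({z} : Set G)))) (he : Cfsg.IsPBlock M e)
    (s : Subgroup.centralizer ({z} : Set G)) (hs : ¬ p ∣ orderOf s) :
    ∑ᶠ χ : Cfsg.IrrCharacter G,
        Cfsg.blockPart e (fun c : Subgroup.centralizer ({z} : Set G) => (χ : G → ℂ) (z * c)) s
          * Cfsg.blockPart e
              (fun c : Subgroup.centralizer ({z} : Set G) => (χ : G → ℂ) (z⁻¹ * c)) s⁻¹
      = ∑ᶠ ψ ∈ e, (ψ : Subgroup.centralizer ({z} : Set G) → ℂ) s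
          * conj ((ψ : Subgroup.centralizer ({z} : Set G) → ℂ) s) := by
  classical
  let _ : Fintype (Subgroup.centralizer ({z} : Set G)) := Fintype.ofFinite _
  have := Fintype.ofFinite (Cfsg.IrrCharacter G)
  have := Fintype.ofFinite (Cfsg.IrrCharacter (Subgroup.centralizer ({z} : Set G)))
  have hcomm : ∀ c : Subgroup.centralizer ({z} : Set G), z * (c : G) = (c : G) * z :=
    fun c => Subgroup.mem_centralizer_iff.mp c.2 z rfl
  have hcardC : (Nat.card (Subgroup.centralizer ({z} : Set G)) : ℂ) ≠ 0 := by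
    have : 0 < Nat.card (Subgroup.centralizer ({z} : Set G)) := Nat.card_pos
    exact_mod_cast this.ne'
  obtain ⟨E, hE⟩ : ∃ E : Finset (Cfsg.IrrCharacter (Subgroup.centralizer ({z} : Set G))),
      E = (Set.toFinite e).toFinset := ⟨_, rfl⟩
  obtain ⟨K, hK⟩ : ∃ K : Subgroup.centralizer ({z} : Set G) →
      Subgroup.centralizer ({z} : Set G) → ℂ, ∀ t c, K t c = ∑ ψ ∈ E,
        (ψ : Subgroup.centralizer ({z} : Set G) → ℂ) t
          * conj ((ψ : Subgroup.centralizer ({z} : Set G) → ℂ) c) := ⟨_, fun _ _ => rfl⟩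
  -- the block part through the kernel
  have hK1 : ∀ (ϑ : Subgroup.centralizer ({z} : Set G) → ℂ)
      (t : Subgroup.centralizer ({z} : Set G)),
      Cfsg.blockPart e ϑ t = (Nat.card (Subgroup.centralizer ({z} : Set G)) : ℂ)⁻¹ *
        ∑ c : Subgroup.centralizer ({z} : Set G), ϑ c * K t c := by
    intro ϑ t
    show ∑ᶠ ψ ∈ e, Cfsg.classInner ϑ (ψ : Subgroup.centralizer ({z} : Set G) → ℂ)
      * (ψ : Subgroup.centralizer ({z} : Set G) → ℂ) t = _
    rw [finsum_mem_eq_finite_toFinset_sum _ (Set.toFinite e), ← hE]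
    calc ∑ ψ ∈ E, Cfsg.classInner ϑ (ψ : Subgroup.centralizer ({z} : Set G) → ℂ)
          * (ψ : Subgroup.centralizer ({z} : Set G) → ℂ) t
        = ∑ ψ ∈ E, (Nat.card (Subgroup.centralizer ({z} : Set G)) : ℂ)⁻¹ *
            ∑ c : Subgroup.centralizer ({z} : Set G), ϑ c *
              ((ψ : Subgroup.centralizer ({z} : Set G) → ℂ) t
                * conj ((ψ : Subgroup.centralizer ({z} : Set G) → ℂ) c)) := by
          refine Finset.sum_congr rfl fun ψ _ => ?_
          unfold Cfsg.classInner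
          rw [mul_assoc, Finset.sum_mul]
          congr 1
          refine Finset.sum_congr rfl fun c _ => ?_
          ring
      _ = (Nat.card (Subgroup.centralizer ({z} : Set G)) : ℂ)⁻¹ *
            ∑ c : Subgroup.centralizer ({z} : Set G), ϑ c * K t c := by
          rw [← Finset.mul_sum, Finset.sum_comm]
          congr 1
          refine Finset.sum_congr rfl fun c _ => ?_
          rw [hK, Finset.mul_sum]
  -- weak block orthogonality
  have hK0 : ∀ t c : Subgroup.centralizer ({z} : Set G), ¬ p ∣ orderOf t → p ∣ orderOf c →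
      K t c = 0 := by
    intro t c ht hc
    have h1 := Helper77.weak_block_orthogonality hM he ht hc
    rw [finsum_mem_eq_finite_toFinset_sum _ (Set.toFinite e), ← hE] at h1
    rw [hK, h1]
  have hKcl : ∀ t c d : Subgroup.centralizer ({z} : Set G), K t (d * c * d⁻¹) = K t c := by
    intro t c d
    rw [hK, hK]
    simp only [Helper81.irr_conj]
  -- the kernel composed with itself
  have hKK : ∀ t t' : Subgroup.centralizer ({z} : Set G),
      ∑ c : Subgroup.centralizer ({z} : Set G), K t' c * K t c⁻¹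
        = (Nat.card (Subgroup.centralizer ({z} : Set G)) : ℂ) *
          ∑ ψ ∈ E, (ψ : Subgroup.centralizer ({z} : Set G) → ℂ) t'
            * (ψ : Subgroup.centralizer ({z} : Set G) → ℂ) t := by
    intro t t'
    have h1 : ∀ c : Subgroup.centralizer ({z} : Set G), K t' c * K t c⁻¹
        = ∑ ψ ∈ E, ∑ ψ' ∈ E, (ψ : Subgroup.centralizer ({z} : Set G) → ℂ) t'
            * (ψ' : Subgroup.centralizer ({z} : Set G) → ℂ) t
            * ((ψ' : Subgroup.centralizer ({z} : Set G) → ℂ) c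
              * (ψ : Subgroup.centralizer ({z} : Set G) → ℂ) c⁻¹) := by
      intro c
      rw [hK, hK, Finset.sum_mul_sum]
      refine Finset.sum_congr rfl fun ψ _ => Finset.sum_congr rfl fun ψ' _ => ?_
      rw [Helper77.irr_inv ψ' c, Complex.conj_conj, Helper77.irr_inv ψ c]
      ring
    rw [Finset.sum_congr rfl (fun c _ => h1 c), Finset.sum_comm, Finset.mul_sum]
    refine Finset.sum_congr rfl fun ψ hψ => ?_
    rw [Finset.sum_comm]
    have h2 : ∀ ψ' ∈ E, ∑ c : Subgroup.centralizer ({z} : Set G),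
        (ψ : Subgroup.centralizer ({z} : Set G) → ℂ) t'
          * (ψ' : Subgroup.centralizer ({z} : Set G) → ℂ) t
          * ((ψ' : Subgroup.centralizer ({z} : Set G) → ℂ) c
            * (ψ : Subgroup.centralizer ({z} : Set G) → ℂ) c⁻¹)
        = if ψ' = ψ then (Nat.card (Subgroup.centralizer ({z} : Set G)) : ℂ) *
            ((ψ : Subgroup.centralizer ({z} : Set G) → ℂ) t'
              * (ψ : Subgroup.centralizer ({z} : Set G) → ℂ) t) else 0 := by
      intro ψ' _
      rw [← Finset.mul_sum]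
      have h3 := Helper81.irr_orthonormal ψ' ψ
      by_cases hψψ : ψ' = ψ
      · rw [if_pos hψψ] at h3 ⊢
        have h4 : ∑ c : Subgroup.centralizer ({z} : Set G),
            (ψ' : Subgroup.centralizer ({z} : Set G) → ℂ) c
              * (ψ : Subgroup.centralizer ({z} : Set G) → ℂ) c⁻¹
            = (Nat.card (Subgroup.centralizer ({z} : Set G)) : ℂ) := by
          field_simp at h3
          linear_combination h3
        rw [h4, hψψ]
        ring
      · rw [if_neg hψψ] at h3 ⊢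
        rcases mul_eq_zero.mp h3 with h5 | h5
        · exact absurd h5 (inv_ne_zero hcardC)
        · rw [h5, mul_zero]
    rw [Finset.sum_congr rfl h2, Finset.sum_ite_eq' E ψ, if_pos hψ]
  -- main computation
  have hsinv : ¬ p ∣ orderOf s⁻¹ := by rw [orderOf_inv]; exact hs
  rw [finsum_eq_sum_of_fintype]
  have hterm : ∀ χ : Cfsg.IrrCharacter G,
      Cfsg.blockPart e (fun c : Subgroup.centralizer ({z} : Set G) => (χ : G → ℂ) (z * c)) s
          * Cfsg.blockPart e
              (fun c : Subgroup.centralizer ({z} : Set G) => (χ : G → ℂ) (z⁻¹ * c)) s⁻¹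
        = ((Nat.card (Subgroup.centralizer ({z} : Set G)) : ℂ)⁻¹) ^ 2 *
          ∑ c' : Subgroup.centralizer ({z} : Set G), K s⁻¹ c' * ((χ : G → ℂ) (z⁻¹ * (c' : G)) *
            ∑ c : Subgroup.centralizer ({z} : Set G), K s c * (χ : G → ℂ) (z * (c : G))) := by
    intro χ
    rw [hK1, hK1, mul_mul_mul_comm, ← pow_two, Finset.sum_mul_sum]
    congr 1
    rw [Finset.sum_comm]
    refine Finset.sum_congr rfl fun c' _ => ?_
    rw [Finset.mul_sum, Finset.mul_sum]
    refine Finset.sum_congr rfl fun c _ => ?_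
    ring
  rw [Finset.sum_congr rfl (fun χ _ => hterm χ), ← Finset.mul_sum, Finset.sum_comm]
  have hc' : ∀ c' : Subgroup.centralizer ({z} : Set G),
      ∑ χ : Cfsg.IrrCharacter G, K s⁻¹ c' * ((χ : G → ℂ) (z⁻¹ * (c' : G)) *
        ∑ c : Subgroup.centralizer ({z} : Set G), K s c * (χ : G → ℂ) (z * (c : G)))
      = (Nat.card (Subgroup.centralizer ({z} : Set G)) : ℂ) * (K s⁻¹ c' * K s c'⁻¹) := by
    intro c'
    by_cases hcs : p ∣ orderOf c'
    · rw [hK0 s⁻¹ c' hsinv hcs]
      simp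
    · have hcinv : ¬ p ∣ orderOf c'⁻¹ := by rw [orderOf_inv]; exact hcs
      have h1 := section_fourier z hz (K s) (hKcl s) (fun c hc => hK0 s c hs hc) c'⁻¹ hcinv
      rw [← Finset.mul_sum]
      have h2 : ∀ χ : Cfsg.IrrCharacter G, (χ : G → ℂ) (z⁻¹ * (c' : G))
          = conj ((χ : G → ℂ) (z * ((c'⁻¹ : Subgroup.centralizer ({z} : Set G)) : G))) := by
        intro χ
        rw [← Helper77.irr_inv]
        refine congrArg (χ : G → ℂ) ?_
        rw [Subgroup.coe_inv, mul_inv_rev, inv_inv]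
        have h3 := hcomm c'
        calc z⁻¹ * (c' : G) = z⁻¹ * ((c' : G) * z) * z⁻¹ := by group
          _ = z⁻¹ * (z * (c' : G)) * z⁻¹ := by rw [h3]
          _ = (c' : G) * z⁻¹ := by group
      rw [Finset.sum_congr rfl (fun χ _ => by rw [h2 χ]), h1]
      ring
  rw [Finset.sum_congr rfl (fun c' _ => hc' c'), ← Finset.mul_sum, hKK s s⁻¹,
    finsum_mem_eq_finite_toFinset_sum _ (Set.toFinite e), ← hE]
  rw [Finset.sum_congr rfl (fun ψ _ => by rw [Helper77.irr_inv ψ s])]
  have h5 : ∀ ψ ∈ E, conj ((ψ : Subgroup.centralizer ({z} : Set G) → ℂ) s)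
        * (ψ : Subgroup.centralizer ({z} : Set G) → ℂ) s
      = (ψ : Subgroup.centralizer ({z} : Set G) → ℂ) s
        * conj ((ψ : Subgroup.centralizer ({z} : Set G) → ℂ) s) := fun ψ _ => mul_comm _ _
  rw [Finset.sum_congr rfl h5]
  field_simp

/-- **Orthogonality of generalized decomposition numbers** (character form): if the block `e` of
`C = C_G(z)` induces `B`, the sum over `χ ∈ B` and the `p`-regular `s ∈ C` of the `e`-part of
`c ↦ χ(z c)` at `s` times the `e`-part of `c ↦ χ(z⁻¹ c)` at `s⁻¹` equals `|C| l(e)`. -/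
theorem genDecomp_orthogonality {p : ℕ} [Fact p.Prime] {M : Ideal Cfsg.AlgInt}
    (hM : Cfsg.IsPModular p M) (z : G) (hz : ∃ k : ℕ, orderOf z = p ^ k)
    (B : Set (Cfsg.IrrCharacter G))
    (e : Set (Cfsg.IrrCharacter (Subgroup.centralizer ({z} : Set G))))
    (hind : Cfsg.IsInducedBlock M (Subgroup.centralizer ({z} : Set G)) e B) :
    ∑ᶠ χ ∈ B, ∑ᶠ s : Subgroup.centralizer ({z} : Set G),
        Cfsg.pRegularPart p (Cfsg.blockPart e
          (fun c : Subgroup.centralizer ({z} : Set G) => (χ : G → ℂ) (z * c))) s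
        * Cfsg.blockPart e
            (fun c : Subgroup.centralizer ({z} : Set G) => (χ : G → ℂ) (z⁻¹ * c)) s⁻¹
      = (Nat.card (Subgroup.centralizer ({z} : Set G)) : ℂ) * (Cfsg.blockRank p e : ℂ) := by
  classical
  let _ : Fintype (Subgroup.centralizer ({z} : Set G)) := Fintype.ofFinite _
  have := Fintype.ofFinite (Cfsg.IrrCharacter G)
  have := Fintype.ofFinite (Cfsg.IrrCharacter (Subgroup.centralizer ({z} : Set G)))
  have hMm := hM.2.1
  have hMp : M.IsPrime := hMm.isPrime
  have he := hind.1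
  have hB := hind.2.1
  -- Second Main Theorem: vanishing outside `B`
  have hout : ∀ χ : Cfsg.IrrCharacter G, χ ∉ B → ∀ s : Subgroup.centralizer ({z} : Set G),
      ¬ p ∣ orderOf s → Cfsg.blockPart e
        (fun c : Subgroup.centralizer ({z} : Set G) => (χ : G → ℂ) (z * c)) s = 0 := by
    intro χ hχ s hs
    have hB' : Cfsg.IsPBlock M (Cfsg.blockOf M (χ : G → ℂ)) := ⟨χ, rfl⟩
    have hχ' : χ ∈ Cfsg.blockOf M (χ : G → ℂ) := Helper81.mem_blockOf_self χ
    have hnot : ¬ Cfsg.IsInducedBlock M (Subgroup.centralizer ({z} : Set G)) e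
        (Cfsg.blockOf M (χ : G → ℂ)) := by
      intro hi
      have h1 := isInducedBlock_unique hMm hind hi
      exact hχ (h1 ▸ hχ')
    exact Helper16.finsum_classInner_centralizer_eq_zero hM z hz hB' χ hχ' he hnot s hs
  obtain ⟨f, hf⟩ : ∃ f : Cfsg.IrrCharacter G → Subgroup.centralizer ({z} : Set G) → ℂ,
      ∀ χ s, f χ s = Cfsg.pRegularPart p (Cfsg.blockPart e
          (fun c : Subgroup.centralizer ({z} : Set G) => (χ : G → ℂ) (z * c))) s
        * Cfsg.blockPart e
            (fun c : Subgroup.centralizer ({z} : Set G) => (χ : G → ℂ) (z⁻¹ * c)) s⁻¹ :=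
    ⟨_, fun _ _ => rfl⟩
  have hfeq : ∀ χ s, f χ s = if ¬ p ∣ orderOf s then Cfsg.blockPart e
          (fun c : Subgroup.centralizer ({z} : Set G) => (χ : G → ℂ) (z * c)) s
        * Cfsg.blockPart e
            (fun c : Subgroup.centralizer ({z} : Set G) => (χ : G → ℂ) (z⁻¹ * c)) s⁻¹
      else 0 := by
    intro χ s
    rw [hf, Helper77.pRegularPart_apply]
    split_ifs <;> simp
  have hgoal : ∑ᶠ χ ∈ B, ∑ᶠ s : Subgroup.centralizer ({z} : Set G), f χ s
      = (Nat.card (Subgroup.centralizer ({z} : Set G)) : ℂ) * (Cfsg.blockRank p e : ℂ) := by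
    have h1 : ∑ᶠ χ ∈ B, ∑ᶠ s : Subgroup.centralizer ({z} : Set G), f χ s
        = ∑ χ : Cfsg.IrrCharacter G, ∑ s : Subgroup.centralizer ({z} : Set G), f χ s := by
      rw [finsum_mem_eq_finite_toFinset_sum _ (Set.toFinite B)]
      simp only [finsum_eq_sum_of_fintype]
      apply Finset.sum_subset (Finset.subset_univ _)
      intro χ _ hχ
      rw [Set.Finite.mem_toFinset] at hχ
      apply Finset.sum_eq_zero
      intro s _
      rw [hfeq]
      by_cases hs : p ∣ orderOf s
      · rw [if_neg (not_not.mpr hs)]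
      · rw [if_pos hs, hout χ hχ s hs, zero_mul]
    rw [h1, Finset.sum_comm]
    have h2 : ∀ s : Subgroup.centralizer ({z} : Set G), ∑ χ : Cfsg.IrrCharacter G, f χ s
        = if ¬ p ∣ orderOf s then ∑ᶠ ψ ∈ e, (ψ : Subgroup.centralizer ({z} : Set G) → ℂ) s
          * conj ((ψ : Subgroup.centralizer ({z} : Set G) → ℂ) s) else 0 := by
      intro s
      by_cases hs : p ∣ orderOf s
      · rw [if_neg (not_not.mpr hs)]
        apply Finset.sum_eq_zero
        intro χ _
        rw [hfeq, if_neg (not_not.mpr hs)]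
      · rw [if_pos hs, ← sum_blockPart_section hM z hz e he s hs, finsum_eq_sum_of_fintype]
        refine Finset.sum_congr rfl fun χ _ => ?_
        rw [hfeq, if_pos hs]
    rw [Finset.sum_congr rfl (fun s _ => h2 s), Helper77.card_mul_blockRank hM he]
    simp only [Helper77.pregInner]
    rw [Finset.sum_comm]
    refine Finset.sum_congr rfl fun s _ => ?_
    by_cases hs : p ∣ orderOf s
    · simp [hs]
    · rw [if_pos hs, finsum_mem_eq_finite_toFinset_sum _ (Set.toFinite e)]
      simp only [if_pos hs]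
      refine Finset.sum_congr ?_ (fun _ _ => rfl)
      ext ψ
      simp
  simpa only [hf] using hgoal

/-- The same for any subgroup equal to the centralizer of `z`. -/
theorem genDecomp_orthogonality' {p : ℕ} [Fact p.Prime] {M : Ideal Cfsg.AlgInt}
    (hM : Cfsg.IsPModular p M) (z : G) (hz : ∃ k : ℕ, orderOf z = p ^ k)
    (B : Set (Cfsg.IrrCharacter G)) (H : Subgroup G)
    (hH : H = Subgroup.centralizer ({z} : Set G))
    (e : Set (Cfsg.IrrCharacter H)) (hind : Cfsg.IsInducedBlock M H e B) :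
    ∑ᶠ χ ∈ B, ∑ᶠ s : H,
        Cfsg.pRegularPart p (Cfsg.blockPart e (fun c : H => (χ : G → ℂ) (z * c))) s
        * Cfsg.blockPart e (fun c : H => (χ : G → ℂ) (z⁻¹ * c)) s⁻¹
      = (Nat.card H : ℂ) * (Cfsg.blockRank p e : ℂ) := by
  subst hH
  exact genDecomp_orthogonality hM z hz B e hind

omit [Fintype G] in
theorem centralizer_zpowers_eq (u : G) :
    Subgroup.centralizer (Subgroup.zpowers u : Set G) = Subgroup.centralizer ({u} : Set G) := by
  ext x
  rw [Subgroup.mem_centralizer_iff, Subgroup.mem_centralizer_iff]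
  constructor
  · intro h y hy
    rw [Set.mem_singleton_iff] at hy
    subst hy
    exact h _ (Subgroup.mem_zpowers _)
  · intro h y hy
    obtain ⟨k, rfl⟩ := Subgroup.mem_zpowers_iff.mp hy
    have h1 : Commute u x := h u rfl
    exact h1.zpow_left k

omit [Fintype G] in
theorem zpowers_le_centralizer_zpowers (u : G) :
    Subgroup.zpowers u ≤ Subgroup.centralizer (Subgroup.zpowers u : Set G) := by
  rw [centralizer_zpowers_eq]
  intro x hx
  obtain ⟨k, rfl⟩ := Subgroup.mem_zpowers_iff.mp hx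
  rw [Subgroup.mem_centralizer_singleton_iff]
  exact Commute.zpow_self u k

/-- A Brauer pair `(P, e)` of `B` with `P ≤ C_G(P)`: the block `e` of `C_G(P)` induces `B`. -/
theorem isInducedBlock_of_isBrauerPairOf {p : ℕ} [Fact p.Prime] {M : Ideal Cfsg.AlgInt}
    (hM : Cfsg.IsPModular p M) {B : Set (Cfsg.IrrCharacter G)} (P : Subgroup G)
    (hPC : P ≤ Subgroup.centralizer (P : Set G))
    (e : Set (Cfsg.IrrCharacter (Subgroup.centralizer (P : Set G))))
    (h : Cfsg.IsBrauerPairOf p M B P e) :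
    Cfsg.IsInducedBlock M (Subgroup.centralizer (P : Set G)) e B := by
  classical
  let _ : Fintype (Subgroup.centralizer (P : Set G)) := Fintype.ofFinite _
  have hMm := hM.2.1
  obtain ⟨⟨hP, he⟩, hB, hB2⟩ := h
  obtain ⟨B₁, hind⟩ := Helper16.exists_isInducedBlock hM P (Subgroup.centralizer (P : Set G)) hP
    hPC le_rfl (Subgroup.centralizer_le_normalizer _) he
  obtain ⟨ξ, hξ⟩ := Helper16.exists_mem_of_isPBlock hMm he
  obtain ⟨χ, hχ⟩ := Helper16.exists_mem_of_isPBlock hMm hind.2.1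
  have h1 := hB2 ξ hξ
  rw [Helper77.brauerOmega_eq_omega] at h1
  have h2 := Helper16.omega_brRes_sub_memLocalIdeal_of_induced hM P
    (Subgroup.centralizer (P : Set G)) hP hPC (Subgroup.centralizer_le_normalizer _) hind hξ hχ
    (Helper77.blockCoeff_isClassFunction B) (Helper77.blockCoeff_memLocalRing hMm hB)
  have h3 : Cfsg.MemLocalIdeal M (Helper81.omega (χ : G → ℂ) (Cfsg.blockCoeff B) - 1) := by
    have h4 := Helper77.memLocalIdeal_sub hMm h1 h2
    have e1 : Helper81.omega (ξ : _ → ℂ)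
          (Helper16.brRes P (Subgroup.centralizer (P : Set G)) (Cfsg.blockCoeff B)) - 1 -
        (Helper81.omega (ξ : _ → ℂ)
          (Helper16.brRes P (Subgroup.centralizer (P : Set G)) (Cfsg.blockCoeff B)) -
          Helper81.omega (χ : G → ℂ) (Cfsg.blockCoeff B))
        = Helper81.omega (χ : G → ℂ) (Cfsg.blockCoeff B) - 1 := by ring
    rwa [e1] at h4
  have hχB : χ ∈ B := by
    by_contra hnot
    rw [Helper77.omega_blockCoeff_of_not_mem hnot, zero_sub] at h3
    have h5 := Helper77.memLocalIdeal_neg h3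
    rw [neg_neg] at h5
    exact Helper77.not_memLocalIdeal_one hMm h5
  have h6 : B₁ = B := Helper77.block_eq_of_mem hMm hind.2.1 hB hχ hχB
  rw [← h6]
  exact hind

end Cfsg.Agent.Helper78
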