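-- helper78 library: DUAL-MOD for S3795 (helper63's CALL, piece DUAL of helper93):
-- the module of additive functions `P → K` vanishing on `N`, the dual action of the
-- automorphisms stabilising `N`, separation of points, and the two inputs of
-- `cubic_of_decomp`.
import Mathlib
import Cfsg.Agent.Helper63.AddCharRep

set_option autoImplicit false

namespace Cfsg.Agent.Helper78.DualMod

universe u v

variable {P : Type u} [Group P] (N : Subgroup P) (K : Type v) [Field K]

/-- The additive functions `P → K` vanishing on `N`. -/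
def addFun : Submodule K (P → K) where
  carrier := {f | (∀ a b : P, f (a * b) = f a + f b) ∧ ∀ z ∈ N, f z = 0}
  add_mem' := by
    rintro f g ⟨hf, hf0⟩ ⟨hg, hg0⟩
    refine ⟨fun a b => ?_, fun z hz => ?_⟩
    · simp only [Pi.add_apply]
      rw [hf a b, hg a b]
      ring
    · simp only [Pi.add_apply]
      rw [hf0 z hz, hg0 z hz, add_zero]
  zero_mem' := ⟨fun a b => by simp, fun z hz => rfl⟩
  smul_mem' := by
    rintro c f ⟨hf, hf0⟩
    refine ⟨fun a b => ?_, fun z hz => ?_⟩
    · simp only [Pi.smul_apply, smul_eq_mul]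
      rw [hf a b]
      ring
    · simp only [Pi.smul_apply, smul_eq_mul]
      rw [hf0 z hz, mul_zero]

/-- The automorphisms of `P` stabilising `N`. -/
def stab : Subgroup (MulAut P) where
  carrier := {β | ∀ g, β g ∈ N ↔ g ∈ N}
  one_mem' := fun g => Iff.rfl
  mul_mem' := by
    intro β γ hβ hγ g
    show β (γ g) ∈ N ↔ g ∈ N
    rw [hβ, hγ]
  inv_mem' := by
    intro β hβ g
    have h := hβ (β⁻¹ g)
    rw [MulAut.apply_inv_self] at h
    exact h.symm

theorem mem_stab (β : MulAut P) : β ∈ stab N ↔ ∀ g, β g ∈ N ↔ g ∈ N := Iff.rfl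

variable {N K}

theorem addFun_mul (f : ↥(addFun N K)) (a b : P) :
    (f : P → K) (a * b) = (f : P → K) a + (f : P → K) b := f.2.1 a b

theorem addFun_mem (f : ↥(addFun N K)) {z : P} (hz : z ∈ N) : (f : P → K) z = 0 := f.2.2 z hz

theorem addFun_one (f : ↥(addFun N K)) : (f : P → K) 1 = 0 := addFun_mem f N.one_mem

theorem addFun_inv (f : ↥(addFun N K)) (a : P) : (f : P → K) a⁻¹ = - (f : P → K) a := by
  have h := addFun_mul f a a⁻¹
  rw [mul_inv_cancel, addFun_one] at h
  exact eq_neg_of_add_eq_zero_right h.symm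

theorem addFun_eq (f : ↥(addFun N K)) {a b : P} (h : a * b⁻¹ ∈ N) :
    (f : P → K) a = (f : P → K) b := by
  have h1 := addFun_mem f h
  rw [addFun_mul, addFun_inv] at h1
  exact eq_of_sub_eq_zero (by rw [sub_eq_add_neg]; exact h1)

variable (N K)

/-- The dual action: `(op β f) g = f (β⁻¹ g)`. -/
def op : ↥(stab N) →* Module.End K ↥(addFun N K) where
  toFun β :=
    { toFun := fun f => ⟨fun g => (f : P → K) ((β : MulAut P)⁻¹ g), by
        refine ⟨fun a b => ?_, fun z hz => ?_⟩
        · show (f : P → K) ((β : MulAut P)⁻¹ (a * b)) = _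
          rw [map_mul, addFun_mul]
        · show (f : P → K) ((β : MulAut P)⁻¹ z) = 0
          exact addFun_mem f (((stab N).inv_mem β.2 z).mpr hz)⟩
      map_add' := fun f g => rfl
      map_smul' := fun c f => rfl }
  map_one' := by
    apply LinearMap.ext
    intro f
    apply Subtype.ext
    funext g
    show (f : P → K) (((1 : ↥(stab N)) : MulAut P)⁻¹ g) = (f : P → K) g
    rw [Subgroup.coe_one, inv_one]
    rfl
  map_mul' := by
    intro β γ
    apply LinearMap.ext
    intro f
    apply Subtype.ext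
    funext g
    show (f : P → K) (((β * γ : ↥(stab N)) : MulAut P)⁻¹ g) =
      (f : P → K) ((γ : MulAut P)⁻¹ ((β : MulAut P)⁻¹ g))
    rw [Subgroup.coe_mul, mul_inv_rev]
    rfl

theorem op_apply (β : ↥(stab N)) (f : ↥(addFun N K)) (g : P) :
    ((op N K β f : ↥(addFun N K)) : P → K) g = (f : P → K) ((β : MulAut P)⁻¹ g) := rfl

variable {N K}

/-- An automorphism acting trivially modulo `N` acts trivially on the additive functions. -/
theorem op_eq_one (β : ↥(stab N)) (h : ∀ g, (β : MulAut P) g * g⁻¹ ∈ N) : op N K β = 1 := by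
  apply LinearMap.ext
  intro f
  apply Subtype.ext
  funext g
  rw [op_apply]
  show (f : P → K) ((β : MulAut P)⁻¹ g) = (f : P → K) g
  have h1 := h ((β : MulAut P)⁻¹ g)
  rw [MulAut.apply_inv_self] at h1
  exact (addFun_eq f h1).symm

/-- `op β f = f` says that `f` is `β`-invariant. -/
theorem op_fix_iff (β : ↥(stab N)) (f : ↥(addFun N K)) :
    op N K β f = f ↔ ∀ g, (f : P → K) ((β : MulAut P) g) = (f : P → K) g := by
  constructor
  · intro h g
    have h1 := congrArg (fun e : ↥(addFun N K) => (e : P → K) ((β : MulAut P) g)) h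
    simp only [op_apply, MulAut.inv_apply_self] at h1
    exact h1.symm
  · intro h
    apply Subtype.ext
    funext g
    rw [op_apply]
    have h1 := h ((β : MulAut P)⁻¹ g)
    rw [MulAut.apply_inv_self] at h1
    exact h1.symm

/-- `op β f = -f` says that `f` is `β`-anti-invariant. -/
theorem op_neg_iff (β : ↥(stab N)) (f : ↥(addFun N K)) :
    op N K β f = -f ↔ ∀ g, (f : P → K) ((β : MulAut P) g) = - (f : P → K) g := by
  constructor
  · intro h g
    have h1 := congrArg (fun e : ↥(addFun N K) => (e : P → K) ((β : MulAut P) g)) h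
    simp only [op_apply, MulAut.inv_apply_self] at h1
    have h2 : ((-f : ↥(addFun N K)) : P → K) ((β : MulAut P) g)
        = - (f : P → K) ((β : MulAut P) g) := rfl
    rw [h2] at h1
    rw [h1, neg_neg]
  · intro h
    apply Subtype.ext
    funext g
    rw [op_apply]
    have h1 := h ((β : MulAut P)⁻¹ g)
    rw [MulAut.apply_inv_self] at h1
    show (f : P → K) ((β : MulAut P)⁻¹ g) = - (f : P → K) g
    rw [h1, neg_neg]

/-- `N` is normal as soon as it contains the commutators. -/
theorem conj_mem_of_comm (hcomm : ∀ g h : P, g * h * g⁻¹ * h⁻¹ ∈ N) (g n : P) (hn : n ∈ N) :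
    g * n * g⁻¹ ∈ N := by
  have h1 : g * n * g⁻¹ = (g * n * g⁻¹ * n⁻¹) * n := by group
  rw [h1]
  exact N.mul_mem (hcomm g n) hn

/-- Additive functions vanishing on `N` separate the points of `P` modulo `N`. -/
theorem exists_addFun_ne_zero {q : ℕ} [Fact q.Prime] [CharP K q]
    (hcomm : ∀ g h : P, g * h * g⁻¹ * h⁻¹ ∈ N) (hexp : ∀ g : P, g ^ q ∈ N) (g : P)
    (hg : g ∉ N) : ∃ f : ↥(addFun N K), (f : P → K) g ≠ 0 := by
  have hnorm : N.Normal := ⟨fun n hn g => conj_mem_of_comm hcomm g n hn⟩
  let _ : CommGroup (P ⧸ N) :=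
    { (inferInstance : Group (P ⧸ N)) with
      mul_comm := by
        intro x y
        induction x using QuotientGroup.induction_on with
        | H a =>
          induction y using QuotientGroup.induction_on with
          | H b =>
            rw [← QuotientGroup.mk_mul, ← QuotientGroup.mk_mul, QuotientGroup.eq]
            have h1 : (a * b)⁻¹ * (b * a) = b⁻¹ * a⁻¹ * b⁻¹⁻¹ * a⁻¹⁻¹ := by group
            rw [h1]
            exact hcomm b⁻¹ a⁻¹ }
  have hne : Additive.ofMul (QuotientGroup.mk g : P ⧸ N) ≠ 0 := by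
    intro h
    apply hg
    have h1 : (QuotientGroup.mk g : P ⧸ N) = 1 := congrArg Additive.toMul h
    exact (QuotientGroup.eq_one_iff g).mp h1
  obtain ⟨φ, hφ⟩ := Cfsg.Agent.Helper63.AddCharRep.exists_addMonoidHom_ne_zero (p := q)
    (A := Additive (P ⧸ N)) (fun x => by
      induction x using Additive.rec with
      | ofMul x =>
        induction x using QuotientGroup.induction_on with
        | H a =>
          rw [← ofMul_pow, ← QuotientGroup.mk_pow]
          have h1 : (QuotientGroup.mk (a ^ q) : P ⧸ N) = 1 :=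
            (QuotientGroup.eq_one_iff _).mpr (hexp a)
          rw [h1]
          rfl) (Additive.ofMul (QuotientGroup.mk g : P ⧸ N)) hne
  refine ⟨⟨fun b => ZMod.castHom (dvd_refl q) K
    (φ (Additive.ofMul (QuotientGroup.mk b : P ⧸ N))), ?_, ?_⟩, ?_⟩
  · intro a b
    show ZMod.castHom (dvd_refl q) K (φ (Additive.ofMul (QuotientGroup.mk (a * b) : P ⧸ N))) = _
    rw [QuotientGroup.mk_mul, ofMul_mul, map_add, map_add]
  · intro z hz
    show ZMod.castHom (dvd_refl q) K (φ (Additive.ofMul (QuotientGroup.mk z : P ⧸ N))) = 0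
    have h1 : (QuotientGroup.mk z : P ⧸ N) = 1 := (QuotientGroup.eq_one_iff z).mpr hz
    rw [h1, ofMul_one, map_zero, map_zero]
  · show ZMod.castHom (dvd_refl q) K (φ (Additive.ofMul (QuotientGroup.mk g : P ⧸ N))) ≠ 0
    intro h
    apply hφ
    exact (map_eq_zero_iff _ (ZMod.castHom (dvd_refl q) K).injective).mp h

/-- An automorphism acting trivially on the additive functions acts trivially modulo `N`. -/
theorem mem_of_op_eq_one {q : ℕ} [Fact q.Prime] [CharP K q]
    (hcomm : ∀ g h : P, g * h * g⁻¹ * h⁻¹ ∈ N) (hexp : ∀ g : P, g ^ q ∈ N) (β : ↥(stab N))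
    (h : op N K β = 1) : ∀ g, (β : MulAut P) g * g⁻¹ ∈ N := by
  intro g
  by_contra hg
  obtain ⟨f, hf⟩ := exists_addFun_ne_zero (K := K) hcomm hexp _ hg
  apply hf
  have h1 : op N K β f = f := by rw [h]; rfl
  rw [op_fix_iff] at h1
  rw [addFun_mul, addFun_inv, h1 g, add_neg_cancel]

instance instFiniteDimensional [Finite P] : FiniteDimensional K ↥(addFun N K) :=
  inferInstance

/-- The anti-invariant additive functions are determined by their values at `a`, `b`. -/
theorem finrank_ker_le_two (h2 : (2 : K) ≠ 0)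
    (hcomm : ∀ g h : P, g * h * g⁻¹ * h⁻¹ ∈ N) (τ : ↥(stab N))
    (hτ2 : ∀ g, ((τ : MulAut P) * (τ : MulAut P)) g * g⁻¹ ∈ N) (a b : P)
    (hgen : ∀ L : Subgroup P, N ≤ L → a ∈ L → b ∈ L →
      ∀ g, (τ : MulAut P) g * g ∈ N → g ∈ L) :
    Module.finrank K ↥(LinearMap.ker (op N K τ + 1)) ≤ 2 := by
  -- evaluation at `a` and `b`
  let Φ : ↥(LinearMap.ker (op N K τ + 1)) →ₗ[K] (Fin 2 → K) :=
    { toFun := fun f => ![((f : ↥(addFun N K)) : P → K) a, ((f : ↥(addFun N K)) : P → K) b]
      map_add' := by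
        intro f g
        ext i
        fin_cases i <;> rfl
      map_smul' := by
        intro c f
        ext i
        fin_cases i <;> rfl }
  have hinj : Function.Injective Φ := by
    rw [injective_iff_map_eq_zero]
    intro f hf
    have hfa : ((f : ↥(addFun N K)) : P → K) a = 0 := congrFun hf 0
    have hfb : ((f : ↥(addFun N K)) : P → K) b = 0 := congrFun hf 1
    have hker : op N K τ (f : ↥(addFun N K)) = -(f : ↥(addFun N K)) := by
      have h1 := f.2
      rw [LinearMap.mem_ker, LinearMap.add_apply, Module.End.one_apply] at h1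
      exact eq_neg_of_add_eq_zero_left h1
    rw [op_neg_iff] at hker
    -- the kernel of `f`
    let L : Subgroup P :=
      { carrier := {g | ((f : ↥(addFun N K)) : P → K) g = 0}
        one_mem' := addFun_one _
        mul_mem' := by
          intro x y hx hy
          show ((f : ↥(addFun N K)) : P → K) (x * y) = 0
          rw [addFun_mul, hx, hy, add_zero]
        inv_mem' := by
          intro x hx
          show ((f : ↥(addFun N K)) : P → K) x⁻¹ = 0
          rw [addFun_inv, hx, neg_zero] }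
    have hL := hgen L (fun z hz => addFun_mem _ hz) hfa hfb
    apply Subtype.ext
    apply Subtype.ext
    funext g
    show ((f : ↥(addFun N K)) : P → K) g = 0
    have hv : (τ : MulAut P) (((τ : MulAut P) g)⁻¹ * g) * (((τ : MulAut P) g)⁻¹ * g) ∈ N := by
      have h3 := N.inv_mem (hτ2 g)
      have h4 := conj_mem_of_comm hcomm ((τ : MulAut P) ((τ : MulAut P) g))⁻¹ _ h3
      have h5 : (τ : MulAut P) (((τ : MulAut P) g)⁻¹ * g) * (((τ : MulAut P) g)⁻¹ * g)
          = ((τ : MulAut P) ((τ : MulAut P) g))⁻¹ *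
            (((τ : MulAut P) * (τ : MulAut P)) g * g⁻¹)⁻¹ *
            ((τ : MulAut P) ((τ : MulAut P) g))⁻¹⁻¹ := by
        rw [map_mul, map_inv, MulAut.mul_apply]
        group
      rw [h5]
      exact h4
    have h6 : ((f : ↥(addFun N K)) : P → K) (((τ : MulAut P) g)⁻¹ * g) = 0 := hL _ hv
    rw [addFun_mul, addFun_inv, hker g, neg_neg] at h6
    have h7 : (2 : K) * ((f : ↥(addFun N K)) : P → K) g = 0 := by
      rw [two_mul]; exact h6
    exact (mul_eq_zero.mp h7).resolve_left h2
  have h1 := LinearMap.finrank_le_finrank_of_injective hinj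
  rw [Module.finrank_fin_fun] at h1
  exact h1

/-- The invariant additive functions of `τ` are invariant under `ψ`. -/
theorem op_fix_of_fix (h2 : (2 : K) ≠ 0)
    (hcomm : ∀ g h : P, g * h * g⁻¹ * h⁻¹ ∈ N) (ψ τ : ↥(stab N))
    (hc : (ψ : MulAut P) * (τ : MulAut P) = (τ : MulAut P) * (ψ : MulAut P))
    (hτ2 : ∀ g, ((τ : MulAut P) * (τ : MulAut P)) g * g⁻¹ ∈ N)
    (hplus : ∀ g, (τ : MulAut P) g * g⁻¹ ∈ N → (ψ : MulAut P) g * g⁻¹ ∈ N)
    (f : ↥(addFun N K)) (hf : op N K τ f = f) : op N K ψ f = f := by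
  rw [op_fix_iff] at hf ⊢
  intro g
  have hu : (τ : MulAut P) (g * (τ : MulAut P) g) * (g * (τ : MulAut P) g)⁻¹ ∈ N := by
    have h3 := hcomm ((τ : MulAut P) g) ((τ : MulAut P) ((τ : MulAut P) g))
    have h4 := hτ2 g
    have h5 : (τ : MulAut P) (g * (τ : MulAut P) g) * (g * (τ : MulAut P) g)⁻¹
        = ((τ : MulAut P) g * (τ : MulAut P) ((τ : MulAut P) g) * ((τ : MulAut P) g)⁻¹ *
            ((τ : MulAut P) ((τ : MulAut P) g))⁻¹) *
          (((τ : MulAut P) * (τ : MulAut P)) g * g⁻¹) := by
      rw [map_mul, MulAut.mul_apply]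
      group
    rw [h5]
    exact N.mul_mem h3 h4
  have h6 := addFun_eq f (hplus _ hu)
  rw [map_mul, addFun_mul, addFun_mul, hf g] at h6
  have h7 : (ψ : MulAut P) ((τ : MulAut P) g) = (τ : MulAut P) ((ψ : MulAut P) g) := by
    rw [← MulAut.mul_apply, hc, MulAut.mul_apply]
  rw [h7, hf] at h6
  have h8 : (2 : K) * ((f : P → K) ((ψ : MulAut P) g) - (f : P → K) g) = 0 := by
    rw [two_mul]
    linear_combination h6
  exact sub_eq_zero.mp ((mul_eq_zero.mp h8).resolve_left h2)

end Cfsg.Agent.Helper78.DualMod
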