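import Cfsg.Prelude.Def_Transfer
import Cfsg.Prelude.Def_Solvable
import Cfsg.Agent.Helper63.N15Defs
import Cfsg.Agent.Helper91.N15Z

/-!
Piece `c7b` of CALL S4415 (helper63): `b` centralizes `y` modulo `T`.
-/

set_option autoImplicit false
set_option linter.unusedSectionVars false
set_option linter.unusedVariables false

namespace Cfsg.Agent.Helper78.N15

open Cfsg.Agent.Helper63.N15
open Cfsg.Agent.Helper91.N15Z

section abs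

variable {G : Type*} [Group G] [Finite G] {V : Type*} [AddCommGroup V] [Module (ZMod 3) V]
  [Finite V] {ρ : Representation (ZMod 3) G V} {R : Subgroup G} {b q₁ q₂ q₃ : G} {v₁ v₂ v₃ : V}

/-- powers of a `Z`-element are `Z`-elements -/
theorem c7b_isZ_pow (c : Cfg ρ R b q₁ q₂ q₃ v₁ v₂ v₃) {z : G} (hz : IsZ ρ z) (n : ℕ) :
    IsZ ρ (z ^ n) := by
  induction n with
  | zero => left; simp
  | succ n ih => rw [pow_succ]; exact isZ_mul c ih hz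

/-- if `h` centralizes `t` modulo `Z` then so does every power of `h` -/
theorem c7b_pow_fix (c : Cfg ρ R b q₁ q₂ q₃ v₁ v₂ v₃) {h t : G}
    (hh : IsZ ρ (h * t * h⁻¹ * t⁻¹)) (n : ℕ) : IsZ ρ (h ^ n * t * (h ^ n)⁻¹ * t⁻¹) := by
  induction n with
  | zero => left; simp
  | succ n ih =>
    have hc := isZ_comm c ih
    have e : h ^ (n + 1) * t * (h ^ (n + 1))⁻¹ * t⁻¹ =
        (h * t * h⁻¹ * t⁻¹) * (h ^ n * t * (h ^ n)⁻¹ * t⁻¹) := by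
      have e1 : h ^ (n + 1) * t * (h ^ (n + 1))⁻¹ * t⁻¹ =
          h * (h ^ n * t * (h ^ n)⁻¹ * t⁻¹) * t * h⁻¹ * t⁻¹ := by
        rw [pow_succ']; group
      rw [e1, ← hc h, ← hc (h * t * h⁻¹ * t⁻¹)]
      simp only [mul_assoc]
    rw [e]; exact isZ_mul c hh ih

theorem c7b_key2 : ∀ x : ZMod 5, x ≠ 0 → x ^ 4 = 1 := by decide

theorem c7b_key : ∀ x : ZMod 5, x * (x * x) - 1 = 0 → x = 1 := by decide

/-- the elements of `Y` whose fifth power lies in `T` (a subgroup as `Y / T` is abelian) -/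
def c7bE (T Y : Subgroup G) [T.Normal] (hYab : ∀ x ∈ Y, ∀ y ∈ Y, x * y * x⁻¹ * y⁻¹ ∈ T) :
    Subgroup G where
  carrier := {x | x ∈ Y ∧ x ^ 5 ∈ T}
  mul_mem' := by
    rintro x x' ⟨hx, hx5⟩ ⟨hx', hx'5⟩
    refine ⟨Y.mul_mem hx hx', ?_⟩
    have hcomm : Commute (QuotientGroup.mk x : G ⧸ T) (QuotientGroup.mk x') := by
      have h := (QuotientGroup.eq_one_iff (N := T) _).mpr (hYab x hx x' hx')
      rw [QuotientGroup.mk_mul, QuotientGroup.mk_mul, QuotientGroup.mk_mul, QuotientGroup.mk_inv,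
        QuotientGroup.mk_inv] at h
      show (QuotientGroup.mk x : G ⧸ T) * QuotientGroup.mk x' = QuotientGroup.mk x' * QuotientGroup.mk x
      calc (QuotientGroup.mk x : G ⧸ T) * QuotientGroup.mk x'
          = ((QuotientGroup.mk x : G ⧸ T) * QuotientGroup.mk x' * (QuotientGroup.mk x)⁻¹ *
              (QuotientGroup.mk x')⁻¹) * (QuotientGroup.mk x' * QuotientGroup.mk x) := by group
        _ = QuotientGroup.mk x' * QuotientGroup.mk x := by rw [h, one_mul]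
    rw [← QuotientGroup.eq_one_iff (N := T), QuotientGroup.mk_pow, QuotientGroup.mk_mul,
      hcomm.mul_pow, ← QuotientGroup.mk_pow, ← QuotientGroup.mk_pow,
      (QuotientGroup.eq_one_iff (N := T) _).mpr hx5, (QuotientGroup.eq_one_iff (N := T) _).mpr hx'5,
      one_mul]
  one_mem' := ⟨Y.one_mem, by rw [one_pow]; exact T.one_mem⟩
  inv_mem' := by
    rintro x ⟨hx, hx5⟩
    exact ⟨Y.inv_mem hx, by rw [inv_pow]; exact T.inv_mem hx5⟩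

theorem c7b_core (c : Cfg ρ R b q₁ q₂ q₃ v₁ v₂ v₃) (T : Subgroup G) (hTn : T.Normal)
    (hT2 : IsPGroup 2 T) (hz : ZProps ρ T) (hTnZ : ∃ t ∈ T, ¬ IsZ ρ t) (h32 : Nat.card T ≤ 32)
    (Y : Subgroup G) (hYn : Y.Normal)
    (hYab : ∀ x ∈ Y, ∀ y ∈ Y, x * y * x⁻¹ * y⁻¹ ∈ T)
    (hfpf : ∀ y' ∈ Y, y' ∉ T → y' ^ 5 = 1 → ∀ t ∈ T, IsZ ρ (y' * t * y'⁻¹ * t⁻¹) → IsZ ρ t)
    (y : G) (hy : y ∈ Y) (hyT : y ∉ T) (hy5 : y ^ 5 = 1) :
    b * y * b⁻¹ * y⁻¹ ∈ T := by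
  have := hTn
  have : Fact (Nat.Prime 2) := ⟨Nat.prime_two⟩
  have : Fact (Nat.Prime 5) := ⟨by norm_num⟩
  obtain ⟨t₀, ht₀, ht₀Z⟩ := hTnZ
  -- Step 0: some element of `T` acts as `-1`
  have hzex : ∃ z ∈ T, ∀ v, ρ z v = -v := by
    by_contra hno
    have h1 : ∀ t ∈ T, IsZ ρ t → t = 1 := by
      intro t ht hZ
      rcases hZ with h | h
      · exact h
      · exact (hno ⟨t, ht, h⟩).elim
    apply ht₀Z
    apply hz.2.2 t₀ ht₀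
    intro s hs
    have h2 := h1 _ (T.mul_mem (T.mul_mem (T.mul_mem ht₀ hs) (T.inv_mem ht₀)) (T.inv_mem hs))
      (hz.2.1 t₀ ht₀ s hs)
    calc t₀ * s = (t₀ * s * t₀⁻¹ * s⁻¹) * (s * t₀) := by group
      _ = s * t₀ := by rw [h2, one_mul]
  obtain ⟨z, hzT, hzact⟩ := hzex
  have hzZ : IsZ ρ z := Or.inr hzact
  have hz1 : z ≠ 1 := by
    intro h
    have h1 := hzact v₁
    rw [h, map_one, Module.End.one_apply] at h1
    exact c.v1 (eq_zero_of_eq_neg h1)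
  -- Step 1: elements of `Y` outside `T` with fifth power in `T` act fixed-point-freely
  have hclaim : ∀ h ∈ Y, h ∉ T → h ^ 5 ∈ T →
      ∀ t ∈ T, IsZ ρ (h * t * h⁻¹ * t⁻¹) → IsZ ρ t := by
    intro h hhY hhT hh5 t ht hfix
    obtain ⟨a, ha⟩ := IsPGroup.exists_card_eq hT2
    have hpow : (h ^ 5) ^ (2 ^ a) = 1 := by
      have h1 : (⟨h ^ 5, hh5⟩ : ↥T) ^ Nat.card ↥T = 1 := pow_card_eq_one'
      rw [ha] at h1
      have h3 := congrArg Subtype.val h1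
      simpa only [Subgroup.coe_pow, Subgroup.coe_one] using h3
    have hcop : Nat.Coprime (2 ^ a) 5 := Nat.Coprime.pow_left a (by norm_num)
    obtain ⟨m, -, hm⟩ := Nat.exists_mul_mod_eq_one_of_coprime hcop (by norm_num)
    obtain ⟨k, hk⟩ : ∃ k, k = 2 ^ a * m := ⟨_, rfl⟩
    rw [← hk] at hm
    have hkq : k = 5 * (k / 5) + 1 := by omega
    have h'5 : (h ^ k) ^ 5 = 1 := by
      rw [← pow_mul, hk, show 2 ^ a * m * 5 = 5 * 2 ^ a * m by ring, pow_mul, pow_mul, hpow,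
        one_pow]
    have h'mem : h ^ k = (h ^ 5) ^ (k / 5) * h := by
      conv_lhs => rw [hkq]
      rw [pow_succ, pow_mul]
    have h'Y : h ^ k ∈ Y := Y.pow_mem hhY k
    have h'T : h ^ k ∉ T := by
      intro hin
      apply hhT
      have e : h = ((h ^ 5) ^ (k / 5))⁻¹ * h ^ k := by rw [h'mem, inv_mul_cancel_left]
      rw [e]
      exact T.mul_mem (T.inv_mem (T.pow_mem hh5 _)) hin
    exact hfpf (h ^ k) h'Y h'T h'5 t ht (c7b_pow_fix c hfix k)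
  -- Step 2: the conjugate `y' = b y b⁻¹`
  obtain ⟨y', hy'⟩ : ∃ y', y' = b * y * b⁻¹ := ⟨_, rfl⟩
  have hy'Y : y' ∈ Y := by rw [hy']; exact hYn.conj_mem y hy b
  have hy'5 : y' ^ 5 = 1 := by
    rw [hy', conj_pow, hy5, mul_one, mul_inv_cancel]
  have hyE : y ∈ c7bE T Y hYab := ⟨hy, by rw [hy5]; exact T.one_mem⟩
  have hy'E : y' ∈ c7bE T Y hYab := ⟨hy'Y, by rw [hy'5]; exact T.one_mem⟩
  -- Step 3: counting
  obtain ⟨F, hFdef⟩ : ∃ F : Fin 5 × Fin 5 × Fin 2 → ↥T, ∀ p, (F p : G) =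
      (y ^ (p.1 : ℕ) * y' ^ (p.2.1 : ℕ)) * t₀ * (y ^ (p.1 : ℕ) * y' ^ (p.2.1 : ℕ))⁻¹ *
        z ^ (p.2.2 : ℕ) :=
    ⟨fun p => ⟨_, T.mul_mem (hTn.conj_mem t₀ ht₀ _) (T.pow_mem hzT _)⟩, fun p => rfl⟩
  have hninj : ¬ Function.Injective F := by
    intro hinj
    have h1 := Nat.card_le_card_of_injective F hinj
    have h2 : Nat.card (Fin 5 × Fin 5 × Fin 2) = 50 := by
      simp
    omega
  obtain ⟨⟨i, j, ε⟩, ⟨i', j', ε'⟩, hF, hne⟩ := Function.not_injective_iff.mp hninj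
  have hF' := congrArg Subtype.val hF
  rw [hFdef, hFdef] at hF'
  simp only at hF'
  have h0 : ∀ a b : Fin 2, z ^ (a : ℕ) = z ^ (b : ℕ) → a = b := by
    intro a b hab
    have ha' := a.isLt
    have hb' := b.isLt
    have ha : (a : ℕ) = 0 ∨ (a : ℕ) = 1 := by omega
    have hb : (b : ℕ) = 0 ∨ (b : ℕ) = 1 := by omega
    rcases ha with ha | ha <;> rcases hb with hb | hb <;> rw [ha, hb] at hab
    · exact Fin.ext (ha.trans hb.symm)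
    · rw [pow_zero, pow_one] at hab; exact (hz1 hab.symm).elim
    · rw [pow_zero, pow_one] at hab; exact (hz1 hab).elim
    · exact Fin.ext (ha.trans hb.symm)
  have hij : ¬ (i = i' ∧ j = j') := by
    rintro ⟨rfl, rfl⟩
    have hzε : z ^ (ε : ℕ) = z ^ (ε' : ℕ) := mul_left_cancel hF'
    apply hne
    rw [h0 ε ε' hzε]
  -- the element `h = g'⁻¹ g` fixes `t₀` modulo `Z`, so it lies in `T`
  obtain ⟨g, hg⟩ : ∃ g, g = y ^ (i : ℕ) * y' ^ (j : ℕ) := ⟨_, rfl⟩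
  obtain ⟨g', hg'⟩ : ∃ g', g' = y ^ (i' : ℕ) * y' ^ (j' : ℕ) := ⟨_, rfl⟩
  rw [← hg, ← hg'] at hF'
  obtain ⟨ζ, hζ⟩ : ∃ ζ, ζ = z ^ (ε' : ℕ) * (z ^ (ε : ℕ))⁻¹ := ⟨_, rfl⟩
  have hζZ : IsZ ρ ζ := by
    rw [hζ]; exact isZ_mul c (c7b_isZ_pow c hzZ _) (isZ_inv c (c7b_isZ_pow c hzZ _))
  have hfix : (g'⁻¹ * g) * t₀ * (g'⁻¹ * g)⁻¹ * t₀⁻¹ = ζ := by
    have e1 : g * t₀ * g⁻¹ = g' * t₀ * g'⁻¹ * ζ := by
      rw [hζ, ← mul_assoc, ← hF', mul_inv_cancel_right]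
    have e2 : g'⁻¹ * ζ * g' = ζ := by
      have := isZ_conj c hζZ g'⁻¹
      rwa [inv_inv] at this
    calc (g'⁻¹ * g) * t₀ * (g'⁻¹ * g)⁻¹ * t₀⁻¹ = g'⁻¹ * (g * t₀ * g⁻¹) * g' * t₀⁻¹ := by group
      _ = g'⁻¹ * (g' * t₀ * g'⁻¹ * ζ) * g' * t₀⁻¹ := by rw [e1]
      _ = t₀ * (g'⁻¹ * ζ * g') * t₀⁻¹ := by group
      _ = t₀ * ζ * t₀⁻¹ := by rw [e2]
      _ = ζ := isZ_conj c hζZ t₀
  have hgE : g ∈ c7bE T Y hYab := by
    rw [hg]; exact Subgroup.mul_mem _ (Subgroup.pow_mem _ hyE _) (Subgroup.pow_mem _ hy'E _)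
  have hg'E : g' ∈ c7bE T Y hYab := by
    rw [hg']; exact Subgroup.mul_mem _ (Subgroup.pow_mem _ hyE _) (Subgroup.pow_mem _ hy'E _)
  have hhE : g'⁻¹ * g ∈ c7bE T Y hYab := Subgroup.mul_mem _ (Subgroup.inv_mem _ hg'E) hgE
  have hhT : g'⁻¹ * g ∈ T := by
    by_contra hhT
    exact ht₀Z (hclaim _ hhE.1 hhT hhE.2 t₀ ht₀ (hfix ▸ hζZ))
  -- Step 4: pass to the quotient `G ⧸ T`
  obtain ⟨π, hπ⟩ : ∃ π : G →* G ⧸ T, ∀ x, π x = 1 ↔ x ∈ T :=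
    ⟨QuotientGroup.mk' T, fun x => by rw [← MonoidHom.mem_ker, QuotientGroup.ker_mk']⟩
  obtain ⟨u, hu⟩ : ∃ u, u = π y := ⟨_, rfl⟩
  obtain ⟨u', hu'⟩ : ∃ u', u' = π y' := ⟨_, rfl⟩
  obtain ⟨β, hβ⟩ : ∃ β, β = π b := ⟨_, rfl⟩
  have hu5 : u ^ 5 = 1 := by rw [hu, ← map_pow, hy5, map_one]
  have hu'5 : u' ^ 5 = 1 := by rw [hu', ← map_pow, hy'5, map_one]
  have hu1 : u ≠ 1 := by rw [hu]; exact fun h => hyT ((hπ y).mp h)
  have hord : orderOf u = 5 := orderOf_eq_prime hu5 hu1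
  have hu5z : u ^ (5 : ℤ) = 1 := by exact_mod_cast hu5
  have hu'5z : u' ^ (5 : ℤ) = 1 := by exact_mod_cast hu'5
  have hconj : u' = β * u * β⁻¹ := by
    rw [hu', hy', map_mul, map_mul, map_inv, ← hu, ← hβ]
  have heq : u ^ (i : ℕ) * u' ^ (j : ℕ) = u ^ (i' : ℕ) * u' ^ (j' : ℕ) := by
    have h1 := (hπ _).mpr hhT
    rw [map_mul, map_inv, hg, hg', map_mul, map_mul, map_pow, map_pow, map_pow, map_pow,
      ← hu, ← hu'] at h1
    exact (inv_mul_eq_one.mp h1).symm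
  have hde : u' ^ ((j : ℕ) - (j' : ℕ) : ℤ) = u ^ (-((i : ℕ) : ℤ) + (i' : ℕ)) := by
    rw [zpow_sub, zpow_add, zpow_neg, zpow_natCast, zpow_natCast, zpow_natCast, zpow_natCast]
    have := congrArg (fun x => (u ^ (i : ℕ))⁻¹ * x * (u' ^ (j' : ℕ))⁻¹) heq
    simpa [mul_assoc] using this
  have hdvd : ∀ a : ℤ, ((a : ZMod 5) = 0) ↔ ((5 : ℕ) : ℤ) ∣ a :=
    fun a => ZMod.intCast_zmod_eq_zero_iff_dvd a 5
  have hi := i.isLt
  have hi' := i'.isLt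
  have hj := j.isLt
  have hj' := j'.isLt
  have hjj : j ≠ j' := by
    intro hjj
    apply hij
    refine ⟨?_, hjj⟩
    rw [hjj, sub_self, zpow_zero] at hde
    have h1 := orderOf_dvd_iff_zpow_eq_one.mpr hde.symm
    rw [hord] at h1
    simp only [Nat.cast_ofNat] at h1
    apply Fin.ext
    omega
  obtain ⟨d, hd⟩ : ∃ d : ℤ, d = ((j : ℕ) - (j' : ℕ) : ℤ) := ⟨_, rfl⟩
  obtain ⟨e, he⟩ : ∃ e : ℤ, e = (-((i : ℕ) : ℤ) + (i' : ℕ)) := ⟨_, rfl⟩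
  rw [← hd, ← he] at hde
  have hd0 : (d : ZMod 5) ≠ 0 := by
    intro h
    have h1 := (hdvd d).mp h
    simp only [Nat.cast_ofNat] at h1
    apply hjj
    apply Fin.ext
    omega
  have key2 := c7b_key2
  have hd4 : ((5 : ℕ) : ℤ) ∣ d ^ 4 - 1 := by
    rw [← hdvd]
    push_cast
    rw [key2 _ hd0, sub_self]
  obtain ⟨q, hq⟩ := hd4
  simp only [Nat.cast_ofNat] at hq
  have e1 : u' ^ (d ^ 4) = u' := by
    have : d ^ 4 = 1 + 5 * q := by linarith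
    rw [this, zpow_add, zpow_one, zpow_mul, hu'5z, one_zpow, mul_one]
  have e2 : u' ^ (d ^ 4) = u ^ (e * d ^ 3) := by
    rw [show d ^ 4 = d * d ^ 3 by ring, zpow_mul, hde, ← zpow_mul]
  obtain ⟨K, hK⟩ : ∃ K : ℤ, K = e * d ^ 3 := ⟨_, rfl⟩
  have h1 : β * u * β⁻¹ = u ^ K := by rw [← hconj, hK, ← e2, e1]
  -- Step 5: `K ≡ 1 mod 5`
  have h2 : β * u ^ K * β⁻¹ = u ^ (K * K) := by rw [← conj_zpow, h1, ← zpow_mul]
  have h3 : β * u ^ (K * K) * β⁻¹ = u ^ (K * (K * K)) := by rw [← conj_zpow, h1, ← zpow_mul]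
  have hβ3 : β ^ 3 = 1 := by rw [hβ, ← map_pow, c.b3, map_one]
  have h4 : u = u ^ (K * (K * K)) := by
    calc u = β ^ 3 * u * (β ^ 3)⁻¹ := by rw [hβ3]; simp
      _ = β * (β * (β * u * β⁻¹) * β⁻¹) * β⁻¹ := by
        simp only [pow_succ, pow_zero, one_mul, mul_inv_rev, mul_assoc]
      _ = u ^ (K * (K * K)) := by rw [h1, h2, h3]
  have h5 : u ^ (K * (K * K) - 1) = 1 := by
    rw [zpow_sub, zpow_one, ← h4]; exact mul_inv_cancel u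
  have h6 : ((5 : ℕ) : ℤ) ∣ K * (K * K) - 1 := by
    have := orderOf_dvd_iff_zpow_eq_one.mpr h5
    rwa [hord] at this
  have h7 : (K : ZMod 5) = 1 := by
    have e3 := (hdvd _).mpr h6
    push_cast at e3
    exact c7b_key _ e3
  have h8 : ((5 : ℕ) : ℤ) ∣ K - 1 := by
    rw [← hdvd]
    push_cast
    rw [h7, sub_self]
  obtain ⟨q', hq'⟩ := h8
  simp only [Nat.cast_ofNat] at hq'
  have h9 : u ^ K = u := by
    have : K = 1 + 5 * q' := by linarith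
    rw [this, zpow_add, zpow_one, zpow_mul, hu5z, one_zpow, mul_one]
  rw [← hπ, map_mul, map_mul, map_mul, map_inv, map_inv, ← hu, ← hβ, h1, h9, mul_inv_cancel]

/-- C7b. `b` centralizes `y` modulo `T`. -/
theorem c7b (c : Cfg ρ R b q₁ q₂ q₃ v₁ v₂ v₃) (htp : TProps R (T2 R))
    (hz : ZProps ρ (T2 R)) (hTnZ : ∃ t ∈ T2 R, ¬ IsZ ρ t) (h32 : Nat.card (T2 R) ≤ 32)
    (Y : Subgroup G) (hYn : Y.Normal) (hTY : T2 R ≤ Y)
    (hYab : ∀ x ∈ Y, ∀ y ∈ Y, x * y * x⁻¹ * y⁻¹ ∈ T2 R)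
    (hfpf : ∀ y' ∈ Y, y' ∉ T2 R → y' ^ 5 = 1 →
      ∀ t ∈ T2 R, IsZ ρ (y' * t * y'⁻¹ * t⁻¹) → IsZ ρ t)
    (y : G) (hy : y ∈ Y) (hyT : y ∉ T2 R) (hy5 : y ^ 5 = 1) :
    b * y * b⁻¹ * y⁻¹ ∈ T2 R :=
  c7b_core c (T2 R) htp.1 htp.2.2.1 hz hTnZ h32 Y hYn hYab hfpf y hy hyT hy5

end abs

end Cfsg.Agent.Helper78.N15
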