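-- helper78 library: piece PARA of CALL S2276 (helper21).
import Mathlib
import Cfsg.Agent.Helper21.PEDefs

set_option autoImplicit false

namespace Cfsg.Agent.Helper78.PEPARA

open Equiv Cfsg.Agent.Helper21.PE

theorem para_geom (p : ℕ) (hp : 3 ≤ p) :
    ∀ a : ℕ, 1 ≤ a → ∑ i ∈ Finset.Ico 1 a, p ^ i + 2 ≤ p ^ a := by
  intro a ha
  induction a, ha using Nat.le_induction with
  | base =>
    rw [Finset.Ico_self, Finset.sum_empty, pow_one]
    omega
  | succ a ha ih =>
    rw [Finset.sum_Ico_succ_top ha]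
    have h2 : p ^ a * 3 ≤ p ^ (a + 1) := by
      rw [pow_succ]
      exact Nat.mul_le_mul_left _ hp
    omega

theorem pe_para : ParaStmt := by
  intro p a ν hp hp3 ha hν
  by_cases h : ∃ i, 2 ≤ ν.count i
  · exact Or.inr h
  · left
    have hnd : ν.Nodup := Multiset.nodup_iff_count_le_one.mpr (fun i => by
      by_contra hc
      exact h ⟨i, by omega⟩)
    have hsum : ν.sum = ∑ x ∈ (⟨ν, hnd⟩ : Finset ℕ), x := by
      rw [Finset.sum_eq_multiset_sum]
      simp
    have hsub : (⟨ν, hnd⟩ : Finset ℕ) ⊆ (Finset.Ico 1 a).image (fun i => p ^ i) := by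
      intro x hx
      obtain ⟨i, hi1, hia, rfl⟩ := hν x (Finset.mem_mk.mp hx)
      exact Finset.mem_image.mpr ⟨i, Finset.mem_Ico.mpr ⟨hi1, hia⟩, rfl⟩
    have h1 : ∑ x ∈ (⟨ν, hnd⟩ : Finset ℕ), x ≤
        ∑ x ∈ (Finset.Ico 1 a).image (fun i => p ^ i), x :=
      Finset.sum_le_sum_of_subset hsub
    have h2 : ∑ x ∈ (Finset.Ico 1 a).image (fun i => p ^ i), x =
        ∑ i ∈ Finset.Ico 1 a, p ^ i := by
      rw [Finset.sum_image]
      intro x _ y _ hxy
      exact Nat.pow_right_injective (by omega : 2 ≤ p) hxy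
    have h3 := para_geom p hp3 a ha
    omega

end Cfsg.Agent.Helper78.PEPARA
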