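import Cfsg.Agent.Helper74.IrrRep
import Cfsg.Agent.Helper80.CharSchur
import Cfsg.Agent.Helper16.BlockCore
import Cfsg.Agent.Helper72.KazarinChar

/-!
# Relative conjugacy classes

For a subgroup `N` of a finite group `G`, the `N`-class of `x : G` is the set of `n x n⁻¹`,
`n ∈ N`.  If `ψ` is the character of a representation of `G` whose restriction to `N` is
irreducible, the `N`-class sums act as scalars (`rel_sum_char`), so
`x ↦ |x^N| ψ(x) / ψ(1)` is integral and multiplicative on `N`-class sums.
-/

set_option autoImplicit false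
open Cfsg
open scoped ComplexConjugate

namespace Cfsg.Agent.Helper78

universe u

variable {G : Type u} [Group G] [Fintype G]

open Classical in
/-- The `N`-conjugacy class of `x`, as a finset of `G`. -/
noncomputable def relCls (N : Subgroup G) (x : G) : Finset G :=
  Finset.univ.filter (fun y => ∃ n ∈ N, n * x * n⁻¹ = y)

theorem mem_relCls (N : Subgroup G) (x y : G) :
    y ∈ relCls N x ↔ ∃ n ∈ N, n * x * n⁻¹ = y := by
  classical
  simp [relCls]

theorem self_mem_relCls (N : Subgroup G) (x : G) : x ∈ relCls N x :=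
  (mem_relCls N x x).2 ⟨1, N.one_mem, by simp⟩

theorem relCls_card_pos (N : Subgroup G) (x : G) : 0 < (relCls N x).card :=
  Finset.card_pos.2 ⟨x, self_mem_relCls N x⟩

theorem relCls_one (N : Subgroup G) : relCls N (1 : G) = {1} := by
  classical
  ext y
  rw [mem_relCls, Finset.mem_singleton]
  constructor
  · rintro ⟨n, _, rfl⟩; simp
  · rintro rfl; exact ⟨1, N.one_mem, by simp⟩

/-- Conjugation by an element of `N` permutes the `N`-class. -/
theorem conj_mem_relCls (N : Subgroup G) {x y m : G} (hm : m ∈ N) (hy : y ∈ relCls N x) :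
    m * y * m⁻¹ ∈ relCls N x := by
  rw [mem_relCls] at hy ⊢
  obtain ⟨n, hn, rfl⟩ := hy
  exact ⟨m * n, N.mul_mem hm hn, by group⟩

/-- Members of the `N`-class lie in the same coset of a normal `N`. -/
theorem relCls_coset (N : Subgroup G) [N.Normal] {x y : G} (hy : y ∈ relCls N x) :
    y * x⁻¹ ∈ N := by
  rw [mem_relCls] at hy
  obtain ⟨n, hn, rfl⟩ := hy
  have h1 : x * n⁻¹ * x⁻¹ ∈ N := Subgroup.Normal.conj_mem inferInstance _ (N.inv_mem hn) x
  have h2 : n * x * n⁻¹ * x⁻¹ = n * (x * n⁻¹ * x⁻¹) := by group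
  rw [h2]
  exact N.mul_mem hn h1

/-- Sums over `N` of a function of `n x n⁻¹` are a fixed positive multiple of the sums over the
`N`-class. -/
theorem exists_relCent (N : Subgroup G) [Fintype N] (x : G) :
    ∃ c : ℕ, 0 < c ∧ c = Nat.card ((Subgroup.centralizer {x}).subgroupOf N) ∧
      ∀ F : G → ℂ, ∑ n : N, F ((n : G) * x * (n : G)⁻¹) = (c : ℂ) * ∑ y ∈ relCls N x, F y := by
  classical
  refine ⟨(Finset.univ.filter (fun n : N => (n : G) * x * (n : G)⁻¹ = x)).card, ?_, ?_, ?_⟩
  · exact Finset.card_pos.2 ⟨1, by simp⟩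
  · rw [Nat.card_eq_fintype_card, Fintype.card_subtype]
    congr 1
    ext n
    simp only [Finset.mem_filter, Finset.mem_univ, true_and, Subgroup.mem_subgroupOf,
      Subgroup.mem_centralizer_iff, Set.mem_singleton_iff, forall_eq]
    constructor
    · intro h
      have : (n : G) * x = x * (n : G) := by
        calc (n : G) * x = (n : G) * x * (n : G)⁻¹ * (n : G) := by group
          _ = x * (n : G) := by rw [h]
      exact this.symm
    · intro h
      rw [← h]; group
  · intro F
    have hfib : ∀ y ∈ relCls N x,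
        (Finset.univ.filter (fun n : N => (n : G) * x * (n : G)⁻¹ = y)).card =
          (Finset.univ.filter (fun n : N => (n : G) * x * (n : G)⁻¹ = x)).card := by
      intro y hy
      rw [mem_relCls] at hy
      obtain ⟨m, hm, rfl⟩ := hy
      apply Finset.card_equiv (Equiv.mulLeft (⟨m, hm⟩ : N)⁻¹)
      intro n
      simp only [Finset.mem_filter, Finset.mem_univ, true_and, Equiv.coe_mulLeft,
        Subgroup.coe_mul, Subgroup.coe_inv]
      constructor
      · intro h
        calc m⁻¹ * (n : G) * x * (m⁻¹ * (n : G))⁻¹ = m⁻¹ * ((n : G) * x * (n : G)⁻¹) * m := by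
              group
          _ = x := by rw [h]; group
      · intro h
        calc (n : G) * x * (n : G)⁻¹ = m * (m⁻¹ * (n : G) * x * (m⁻¹ * (n : G))⁻¹) * m⁻¹ := by
              group
          _ = m * x * m⁻¹ := by rw [h]
    have himg : (Finset.univ : Finset N).image (fun n : N => (n : G) * x * (n : G)⁻¹) =
        relCls N x := by
      ext y
      rw [mem_relCls]
      simp only [Finset.mem_image, Finset.mem_univ, true_and]
      constructor
      · rintro ⟨n, rfl⟩; exact ⟨n, n.2, rfl⟩
      · rintro ⟨n, hn, rfl⟩; exact ⟨⟨n, hn⟩, rfl⟩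
    rw [Finset.sum_comp F (fun n : N => (n : G) * x * (n : G)⁻¹), himg, Finset.mul_sum]
    apply Finset.sum_congr rfl
    intro y hy
    rw [hfib y hy, nsmul_eq_mul]

/-- The size of the `N`-class is the index of the centralizer in `N`. -/
theorem card_relCls (N : Subgroup G) (x : G) :
    (relCls N x).card = (Subgroup.centralizer {x}).relIndex N := by
  classical
  haveI : Fintype N := Fintype.ofFinite N
  obtain ⟨c, hc0, hc, hF⟩ := exists_relCent N x
  have h1 := hF (fun _ => 1)
  simp only [Finset.sum_const, Finset.card_univ, nsmul_eq_mul, mul_one] at h1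
  have h2 : Fintype.card N = c * (relCls N x).card := by exact_mod_cast h1
  have h3 := Subgroup.card_mul_index ((Subgroup.centralizer {x}).subgroupOf N)
  rw [← hc, Nat.card_eq_fintype_card, h2] at h3
  exact (Nat.eq_of_mul_eq_mul_left hc0 h3).symm

/-- `N`-class sums versus sums over `N`, with the cardinality of `N`. -/
theorem sum_conj_eq (N : Subgroup G) [Fintype N] (x : G) (F : G → ℂ) :
    ((relCls N x).card : ℂ) * ∑ n : N, F ((n : G) * x * (n : G)⁻¹) =
      (Fintype.card N : ℂ) * ∑ y ∈ relCls N x, F y := by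
  obtain ⟨c, hc0, hc, hF⟩ := exists_relCent N x
  have h1 := hF (fun _ => 1)
  simp only [Finset.sum_const, Finset.card_univ, nsmul_eq_mul, mul_one] at h1
  rw [hF F, h1]
  ring

/-- **Relative class sums act as scalars**: if the restriction `σ` of `ρ` to `N` is irreducible
then `∑_{n ∈ N} χ(n x n⁻¹ y) = |N| χ(x) χ(y) / χ(1)`. -/
theorem rel_sum_char {d : ℕ} (ρ : Representation ℂ G (Fin d → ℂ)) (N : Subgroup G) [Fintype N]
    (σ : Representation ℂ N (Fin d → ℂ)) (hσ : ∀ n : N, σ n = ρ n) (hirr : σ.IsIrreducible)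
    (x y : G) :
    ∑ n : N, ρ.character ((n : G) * x * (n : G)⁻¹ * y) =
      (Fintype.card N : ℂ) * ρ.character x * ρ.character y / (d : ℂ) := by
  haveI := hirr
  have hcomm : ∀ k : N, (∑ n : N, ρ ((n : G) * x * (n : G)⁻¹)) * σ k =
      σ k * (∑ n : N, ρ ((n : G) * x * (n : G)⁻¹)) := by
    intro k
    rw [Finset.sum_mul, Finset.mul_sum, ← Equiv.sum_comp (Equiv.mulLeft k)]
    apply Finset.sum_congr rfl
    intro n _
    rw [hσ, ← map_mul, ← map_mul]
    congr 1
    simp [mul_assoc]
  have h := Helper80.schur_scalar_trace σ _ hcomm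
  have htr : LinearMap.trace ℂ (Fin d → ℂ) (∑ n : N, ρ ((n : G) * x * (n : G)⁻¹)) =
      (Fintype.card N : ℂ) * ρ.character x := by
    rw [map_sum]
    have : ∀ n : N, LinearMap.trace ℂ (Fin d → ℂ) (ρ ((n : G) * x * (n : G)⁻¹)) =
        ρ.character x := fun n => Representation.char_conj ρ x n
    rw [Finset.sum_congr rfl (fun n _ => this n)]
    simp
  have h1 : ∑ n : N, ρ.character ((n : G) * x * (n : G)⁻¹ * y) =
      LinearMap.trace ℂ (Fin d → ℂ) ((∑ n : N, ρ ((n : G) * x * (n : G)⁻¹)) * ρ y) := by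
    rw [Finset.sum_mul, map_sum]
    apply Finset.sum_congr rfl
    intro n _
    rw [← map_mul]
    rfl
  rw [h1, h, htr, smul_mul_assoc, map_smul, smul_eq_mul, one_mul]
  rw [show LinearMap.trace ℂ (Fin d → ℂ) (ρ y) = ρ.character y from rfl]
  simp only [Module.finrank_fin_fun]
  ring

end Cfsg.Agent.Helper78
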