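import Cfsg.Agent.Helper78.RelTwist
import Cfsg.Agent.Helper79.Basic

/-!
# Extensions of principal block characters in the principal block

`principal_ext`: `N ⊴ G`, `P ∈ Syl_p(N)`, `G = N C_G(P)`, `θ` in the principal block of `N`
extending to `G`.  Then `θ` has an extension `χ` to `G` such that for every `N ≤ J ≤ G` the
restriction of `χ` to `J` lies in the principal block of `J`.
-/

set_option autoImplicit false
open Cfsg
open scoped ComplexConjugate

namespace Cfsg.Agent.Helper78

universe u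

section groups

variable {G : Type u} [Group G] [Finite G]

theorem card_mul_relIndex_of_le {H K : Subgroup G} (h : H ≤ K) :
    Nat.card H * H.relIndex K = Nat.card K := by
  have h1 := Subgroup.relIndex_mul_relIndex (⊥ : Subgroup G) H K bot_le h
  rwa [Subgroup.relIndex_bot_left, Subgroup.relIndex_bot_left] at h1

/-- `[A N : A] = [N : A ∩ N]` for `N` normal. -/
theorem relIndex_sup_of_normal (A N : Subgroup G) [N.Normal] :
    A.relIndex (A ⊔ N) = A.relIndex N := by
  have e1 := card_mul_relIndex_of_le (le_sup_left : A ≤ A ⊔ N)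
  have e2 := card_mul_relIndex_of_le (le_sup_right : N ≤ A ⊔ N)
  have e3 := card_mul_relIndex_of_le (inf_le_left : A ⊓ N ≤ A)
  have e4 := card_mul_relIndex_of_le (inf_le_right : A ⊓ N ≤ N)
  rw [Subgroup.relIndex_sup_right] at e2
  rw [Subgroup.inf_relIndex_left] at e3
  rw [Subgroup.inf_relIndex_right] at e4
  have hA : 0 < Nat.card A := Nat.card_pos
  apply Nat.eq_of_mul_eq_mul_left hA
  rw [e1, ← e2, ← e4, ← e3]
  ring

/-- For `N` normal and `N ≤ J`, `[N : Z ∩ N]` divides `[J : Z ∩ J]`. -/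
theorem relIndex_dvd_relIndex_of_normal (Z N J : Subgroup G) [N.Normal] (hNJ : N ≤ J) :
    Z.relIndex N ∣ Z.relIndex J := by
  have h1 : (Z ⊓ J).relIndex N = Z.relIndex N := by
    rw [← Subgroup.inf_relIndex_right (Z ⊓ J) N, inf_assoc, inf_eq_right.2 hNJ,
      Subgroup.inf_relIndex_right]
  have h2 : (Z ⊓ J).relIndex J = Z.relIndex J := Subgroup.inf_relIndex_right Z J
  have h3 := Subgroup.relIndex_mul_relIndex (Z ⊓ J) (Z ⊓ J ⊔ N) J le_sup_left
    (sup_le inf_le_right hNJ)
  rw [relIndex_sup_of_normal, h1, h2] at h3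
  exact ⟨_, h3.symm⟩

/-- The index of the centralizer of `y` in a subgroup `J`. -/
theorem index_centralizer_coe (J : Subgroup G) (y : J) :
    (Subgroup.centralizer {y} : Subgroup J).index =
      (Subgroup.centralizer {(y : G)}).relIndex J := by
  have h : (Subgroup.centralizer {y} : Subgroup J) =
      (Subgroup.centralizer {(y : G)}).subgroupOf J := by
    ext j
    simp only [Subgroup.mem_centralizer_iff, Set.mem_singleton_iff, forall_eq,
      Subgroup.mem_subgroupOf]
    constructor
    · intro h; exact congrArg Subtype.val h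
    · intro h; exact Subtype.ext h
  rw [h]
  rfl

end groups

/-- A representation is irreducible if it is so after restriction along a map. -/
theorem isIrreducible_of_restrict {H K : Type*} [Group H] [Group K] {V : Type*} [AddCommGroup V]
    [Module ℂ V] (ρH : Representation ℂ H V) (ρK : Representation ℂ K V) (φ : K → H)
    (hφ : ∀ k, ρK k = ρH (φ k)) (h : ρK.IsIrreducible) : ρH.IsIrreducible := by
  rw [Helper79.isIrreducible_iff] at h ⊢
  refine ⟨h.1, fun S hS => h.2 S (fun g v hv => ?_)⟩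
  rw [hφ]
  exact hS (φ g) v hv

theorem principal_ext {G : Type u} [Group G] [Finite G] (p : ℕ) [Fact p.Prime]
    (M : Ideal Cfsg.AlgInt) (hM : Cfsg.IsPModular p M) (N : Subgroup G) [N.Normal]
    (P : Sylow p ↥N)
    (hcov : N ⊔ Subgroup.centralizer (((P : Subgroup ↥N).map N.subtype : Subgroup G) : Set G)
      = ⊤)
    (θ : Cfsg.IrrCharacter ↥N) (hθ : θ ∈ Cfsg.principalBlock M ↥N)
    (ψ : Cfsg.IrrCharacter G) (hψθ : ∀ x : ↥N, (ψ : G → ℂ) x = (θ : ↥N → ℂ) x) :
    ∃ χ : Cfsg.IrrCharacter G, χ ∈ Cfsg.principalBlock M G ∧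
      (∀ x : ↥N, (χ : G → ℂ) x = (θ : ↥N → ℂ) x) ∧
      ∀ J : Subgroup G, N ≤ J → ∃ ξ : Cfsg.IrrCharacter ↥J, ξ ∈ Cfsg.principalBlock M ↥J ∧
        ∀ y : ↥J, (ξ : ↥J → ℂ) y = (χ : G → ℂ) y := by
  classical
  haveI : Fintype G := Fintype.ofFinite G
  haveI : Fintype N := Fintype.ofFinite N
  obtain ⟨d, ρ, hρ, hρψ⟩ := ψ.2
  -- the restriction to `N` is irreducible
  obtain ⟨σ, hσ⟩ : ∃ σ : Representation ℂ N (Fin d → ℂ), ∀ n : N, σ n = ρ n :=
    ⟨ρ.comp N.subtype, fun _ => rfl⟩
  have hσchar : σ.character = (θ : N → ℂ) := by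
    funext n
    rw [← hψθ n, ← hρψ]
    simp only [Representation.character, hσ]
  have hσirr : σ.IsIrreducible :=
    Helper74.isIrreducible_of_irr_character σ (by rw [hσchar]; exact θ.2)
  have hmult : RelMult N (ψ : G → ℂ) := by
    rw [← hρψ]; exact relMult_of_rep ρ N σ hσ hσirr
  obtain ⟨C, hC⟩ : ∃ C : Subgroup G, C = Subgroup.centralizer
      (((P : Subgroup ↥N).map N.subtype : Subgroup G) : Set G) := ⟨_, rfl⟩
  have hloc : RelLocal p M N C (ψ : G → ℂ) := by
    refine ⟨hmult, fun c hc => ?_, fun x y u hxyu =>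
      relOmega_triple_congr hM N hmult θ (fun n => hψθ n) hθ x y u hxyu⟩
    rw [card_relCls]
    have hPZ : (P : Subgroup ↥N).map N.subtype ≤ Subgroup.centralizer {c} := by
      intro z hz
      rw [Subgroup.mem_centralizer_iff]
      intro w hw
      rw [Set.mem_singleton_iff] at hw
      rw [hw]
      rw [hC, Subgroup.mem_centralizer_iff] at hc
      exact (hc z hz).symm
    have h1 := Subgroup.relIndex_dvd_of_le_left N hPZ
    have h2 : ((P : Subgroup ↥N).map N.subtype).relIndex N = (P : Subgroup ↥N).index := by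
      rw [Subgroup.relIndex, Subgroup.subgroupOf,
        Subgroup.comap_map_eq_self_of_injective N.subtype_injective]
    rw [h2] at h1
    exact fun hdvd => P.not_dvd_index (hdvd.trans h1)
  obtain ⟨f, hfN, hf⟩ := exists_twist hM (by rw [hC]; exact hcov) hloc
  -- the twisted representation
  obtain ⟨τ, hτ⟩ : ∃ τ : Representation ℂ G (Fin d → ℂ), τ = Helper79.twistRep f⁻¹ ρ :=
    ⟨_, rfl⟩
  have hτirr : τ.IsIrreducible := by
    rw [hτ]; exact Helper79.twistRep_isIrreducible f⁻¹ ρ hρ
  have hτchar : ∀ g, τ.character g = (f g : ℂ)⁻¹ * (ψ : G → ℂ) g := by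
    intro g
    rw [hτ, Helper79.twistRep_character, hρψ]
    simp
  have hτ1 : τ.character 1 = (ψ : G → ℂ) 1 := by
    rw [hτchar, map_one]; simp
  have hτN : ∀ n : N, τ.character n = (θ : N → ℂ) n := by
    intro n
    rw [hτchar, hfN n n.2, ← hψθ n]; simp
  -- the key congruence
  have hcore : ∀ (x : G) (k : ℕ), (relCls N x).card ∣ k →
      Cfsg.MemLocalIdeal M ((k : ℂ) * 1 / 1 - (k : ℂ) * τ.character x / τ.character 1) := by
    intro x k hk
    obtain ⟨t, rfl⟩ := hk
    have h1 := hf x
    have h2 : (((relCls N x).card * t : ℕ) : ℂ) * 1 / 1 -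
        (((relCls N x).card * t : ℕ) : ℂ) * τ.character x / τ.character 1 =
        (-(t : ℂ)) * (relOmega N (ψ : G → ℂ) x * (f x : ℂ)⁻¹ - ((relCls N x).card : ℂ)) := by
      rw [hτ1, hτchar, relOmega]
      have := hmult.one_ne
      push_cast
      field_simp
      ring
    rw [h2]
    exact Helper77.memLocalIdeal_mul hM.2.1
      (Helper77.memLocalRing_of_isIntegral hM.2.1 ((isIntegral_natCast t).neg)) h1
  -- restriction of `τ` to `N` is irreducible
  obtain ⟨τN, hτN'⟩ : ∃ τN : Representation ℂ N (Fin d → ℂ), ∀ n : N, τN n = τ n :=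
    ⟨τ.comp N.subtype, fun _ => rfl⟩
  have hτNirr : τN.IsIrreducible := by
    apply Helper74.isIrreducible_of_irr_character τN
    have : τN.character = (θ : N → ℂ) := by
      funext n
      rw [← hτN n]
      simp only [Representation.character, hτN']
    rw [this]; exact θ.2
  refine ⟨⟨τ.character, d, τ, hτirr, rfl⟩, ?_, hτN, ?_⟩
  · intro g
    change Cfsg.MemLocalIdeal M (((Subgroup.centralizer ({g} : Set G)).index : ℂ) * 1 / 1 -
      ((Subgroup.centralizer ({g} : Set G)).index : ℂ) * τ.character g / τ.character 1)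
    apply hcore
    rw [card_relCls, ← Subgroup.relIndex_top_right (Subgroup.centralizer {g})]
    exact relIndex_dvd_relIndex_of_normal _ N ⊤ le_top
  · intro J hNJ
    obtain ⟨τJ, hτJ⟩ : ∃ τJ : Representation ℂ J (Fin d → ℂ), ∀ y : J, τJ y = τ y :=
      ⟨τ.comp J.subtype, fun _ => rfl⟩
    have hτJirr : τJ.IsIrreducible :=
      isIrreducible_of_restrict τJ τN (fun n => (⟨n, hNJ n.2⟩ : J))
        (fun n => by rw [hτN', hτJ]) hτNirr
    have hτJchar : ∀ y : J, τJ.character y = τ.character y := by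
      intro y
      simp only [Representation.character, hτJ]
    refine ⟨⟨τJ.character, d, τJ, hτJirr, rfl⟩, ?_, hτJchar⟩
    intro y
    change Cfsg.MemLocalIdeal M (((Subgroup.centralizer ({y} : Set J)).index : ℂ) * 1 / 1 -
      ((Subgroup.centralizer ({y} : Set J)).index : ℂ) * τJ.character y / τJ.character 1)
    rw [hτJchar, hτJchar]
    apply hcore
    rw [card_relCls, index_centralizer_coe]
    exact relIndex_dvd_relIndex_of_normal _ N J hNJ

end Cfsg.Agent.Helper78
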