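import Cfsg.Agent.Helper78.RelMult

/-!
# Lifting the relative central character to a linear character

`N ⊴ G`, `C ≤ G` with `N C = G`, such that the `N`-classes of the elements of `C` have size prime
to `p`, and `ψ` multiplicative on `N`-class sums with the triple congruence
(`relOmega_triple_congr`).  Then `c ↦ ψ(c)/ψ(1)` is multiplicative on `C` modulo the local ideal,
trivial on `C ∩ N`, and lifts to a linear character `f` of `G` trivial on `N` with
`|x^N| ψ(x) / (f(x) ψ(1)) ≡ |x^N|` for all `x`.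
-/

set_option autoImplicit false
open Cfsg
open scoped ComplexConjugate

namespace Cfsg.Agent.Helper78

universe u

variable {G : Type u} [Group G] [Fintype G]

/-- If a power of an element of the local ring is in the local ideal then so is the element. -/
theorem memLocalIdeal_of_pow {M : Ideal Cfsg.AlgInt} (hM : M.IsMaximal) {z : ℂ}
    (hz : Cfsg.MemLocalRing M z) (k : ℕ) (h : Cfsg.MemLocalIdeal M (z ^ k)) :
    Cfsg.MemLocalIdeal M z := by
  by_contra hz'
  have := Helper77.prod_memLocalRing_not_memLocalIdeal hM (Finset.range k) (fun _ => z)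
    (fun _ _ => ⟨hz, hz'⟩)
  rw [Finset.prod_const, Finset.card_range] at this
  exact this.2 h

/-- The residue field has no `p`-torsion: `v ^ p ^ a ≡ 1` implies `v ≡ 1`. -/
theorem memLocalIdeal_sub_one_of_pow {p : ℕ} {M : Ideal Cfsg.AlgInt} (hM : Cfsg.IsPModular p M)
    {v : ℂ} (hv : Cfsg.MemLocalRing M v) (a : ℕ) (h : Cfsg.MemLocalIdeal M (v ^ p ^ a - 1)) :
    Cfsg.MemLocalIdeal M (v - 1) := by
  have hp := hM.1
  obtain ⟨r, hr⟩ := exists_add_pow_prime_pow_eq hp
    ((⟨v, hv⟩ : Helper77.localSubring M hM.2.1) - 1) 1 a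
  have hr' := congrArg (fun z : Helper77.localSubring M hM.2.1 => (z : ℂ)) hr
  simp only [sub_add_cancel, one_pow, mul_one] at hr'
  push_cast at hr'
  have h1 : (v - 1) ^ p ^ a = (v ^ p ^ a - 1) - (p : ℂ) * ((v - 1) * (r : ℂ)) := by
    linear_combination -hr'
  have hv1 := Helper77.memLocalRing_sub hM.2.1 hv (Helper77.memLocalRing_one hM.2.1)
  apply memLocalIdeal_of_pow hM.2.1 hv1 (p ^ a)
  rw [h1]
  apply Helper77.memLocalIdeal_sub hM.2.1 h
  exact Helper77.memLocalIdeal_mul' hM.2.1 (Helper77.memLocalIdeal_prime hM)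
    (Helper77.memLocalRing_mul hM.2.1 hv1 r.2)

/-- **Teichmüller lift**: an element of the local ring whose `m`-th power is `≡ 1` is congruent
to an `m`-th root of unity. -/
theorem exists_root_congr {M : Ideal Cfsg.AlgInt} (hM : M.IsMaximal) {v : ℂ}
    (hv : Cfsg.MemLocalRing M v) {m : ℕ} (hm : 0 < m) (h : Cfsg.MemLocalIdeal M (v ^ m - 1)) :
    ∃ ζ : ℂ, ζ ^ m = 1 ∧ Cfsg.MemLocalIdeal M (v - ζ) := by
  by_contra hno
  push Not at hno
  have hprim := Complex.isPrimitiveRoot_exp m hm.ne'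
  have h1 := Polynomial.X_pow_sub_one_eq_prod hm hprim
  have h2 := congrArg (Polynomial.eval v) h1
  simp only [Polynomial.eval_sub, Polynomial.eval_pow, Polynomial.eval_X, Polynomial.eval_one,
    Polynomial.eval_prod, Polynomial.eval_C] at h2
  have h3 := Helper77.prod_memLocalRing_not_memLocalIdeal hM
    (Polynomial.nthRootsFinset m (1 : ℂ)) (fun ζ => v - ζ) (fun ζ hζ => by
      have hζ1 : ζ ^ m = 1 := (Polynomial.mem_nthRootsFinset hm 1).1 hζ
      have hint : IsIntegral ℤ ζ := by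
        apply IsIntegral.of_pow hm
        rw [hζ1]; exact isIntegral_one
      exact ⟨Helper77.memLocalRing_sub hM hv (Helper77.memLocalRing_of_isIntegral hM hint),
        hno ζ hζ1⟩)
  rw [← h2] at h3
  exact h3.2 h

/-- Local data for the lifting argument. -/
structure RelLocal (p : ℕ) (M : Ideal Cfsg.AlgInt) (N C : Subgroup G) (ψ : G → ℂ) : Prop where
  mult : RelMult N ψ
  cop : ∀ c ∈ C, ¬ p ∣ (relCls N c).card
  tri : ∀ x y u : G, x * (y * u) ∈ N →
    Cfsg.MemLocalIdeal M (relOmega N ψ x * relOmega N ψ y * relOmega N ψ u -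
      (((relCls N x).card * ((relCls N y).card * (relCls N u).card) : ℕ) : ℂ))

section local_lemmas

variable {p : ℕ} {M : Ideal Cfsg.AlgInt} {N C : Subgroup G} {ψ : G → ℂ}

theorem RelLocal.card_ne (x : G) : ((relCls N x).card : ℂ) ≠ 0 := by
  exact_mod_cast (relCls_card_pos N x).ne'

theorem RelLocal.w_mem (hM : Cfsg.IsPModular p M) (h : RelLocal p M N C ψ) {c : G}
    (hc : c ∈ C) : Cfsg.MemLocalRing M (ψ c / ψ 1) := by
  have h1 : ψ c / ψ 1 = relOmega N ψ c * ((relCls N c).card : ℂ)⁻¹ := by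
    rw [relOmega]
    have := RelLocal.card_ne (N := N) c
    have := h.mult.one_ne
    field_simp
  rw [h1]
  exact Helper77.memLocalRing_mul hM.2.1
    (Helper77.memLocalRing_of_isIntegral hM.2.1 (relOmega_isIntegral h.mult c))
    (Helper77.memLocalRing_natCast_inv hM (h.cop c hc))

theorem RelLocal.w_triple (hM : Cfsg.IsPModular p M) (h : RelLocal p M N C ψ) {c d e : G}
    (hc : c ∈ C) (hd : d ∈ C) (he : e ∈ C) (hN : c * (d * e) ∈ N) :
    Cfsg.MemLocalIdeal M (ψ c / ψ 1 * (ψ d / ψ 1) * (ψ e / ψ 1) - 1) := by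
  have key := h.tri c d e hN
  have hcop : ¬ p ∣ (relCls N c).card * ((relCls N d).card * (relCls N e).card) := by
    intro hdvd
    rcases (Nat.Prime.dvd_mul hM.1).1 hdvd with h1 | h1
    · exact h.cop c hc h1
    · rcases (Nat.Prime.dvd_mul hM.1).1 h1 with h2 | h2
      · exact h.cop d hd h2
      · exact h.cop e he h2
  have h2 := Helper77.memLocalIdeal_mul hM.2.1 (Helper77.memLocalRing_natCast_inv hM hcop) key
  have h3 : ψ c / ψ 1 * (ψ d / ψ 1) * (ψ e / ψ 1) - 1 =
      ((((relCls N c).card * ((relCls N d).card * (relCls N e).card) : ℕ) : ℂ))⁻¹ *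
        (relOmega N ψ c * relOmega N ψ d * relOmega N ψ e -
          (((relCls N c).card * ((relCls N d).card * (relCls N e).card) : ℕ) : ℂ)) := by
    simp only [relOmega]
    have := RelLocal.card_ne (N := N) c
    have := RelLocal.card_ne (N := N) d
    have := RelLocal.card_ne (N := N) e
    have := h.mult.one_ne
    push_cast
    field_simp
  rw [h3]
  exact h2

theorem RelLocal.w_inv (hM : Cfsg.IsPModular p M) (h : RelLocal p M N C ψ) {c : G}
    (hc : c ∈ C) : Cfsg.MemLocalIdeal M (ψ c / ψ 1 * (ψ c⁻¹ / ψ 1) - 1) := by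
  have h1 := h.w_triple hM hc (C.inv_mem hc) C.one_mem (by simp [N.one_mem])
  rwa [div_self h.mult.one_ne, mul_one] at h1

theorem RelLocal.w_of_mem (hM : Cfsg.IsPModular p M) (h : RelLocal p M N C ψ) {c : G}
    (hc : c ∈ C) (hcN : c ∈ N) : Cfsg.MemLocalIdeal M (ψ c / ψ 1 - 1) := by
  have h1 := h.w_triple hM hc C.one_mem C.one_mem (by simpa using hcN)
  rwa [div_self h.mult.one_ne, mul_one, mul_one] at h1

theorem RelLocal.w_mul (hM : Cfsg.IsPModular p M) (h : RelLocal p M N C ψ) {c d : G}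
    (hc : c ∈ C) (hd : d ∈ C) :
    Cfsg.MemLocalIdeal M (ψ c / ψ 1 * (ψ d / ψ 1) - ψ (c * d) / ψ 1) := by
  have hcd := C.mul_mem hc hd
  have hA := h.w_triple hM hc hd (C.inv_mem hcd) (by simp [← mul_assoc, N.one_mem])
  have hB := h.w_inv hM hcd
  have h1 : ψ c / ψ 1 * (ψ d / ψ 1) - ψ (c * d) / ψ 1 =
      ψ (c * d) / ψ 1 * (ψ c / ψ 1 * (ψ d / ψ 1) * (ψ (c * d)⁻¹ / ψ 1) - 1) -
        ψ c / ψ 1 * (ψ d / ψ 1) * (ψ (c * d) / ψ 1 * (ψ (c * d)⁻¹ / ψ 1) - 1) := by ring
  rw [h1]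
  exact Helper77.memLocalIdeal_sub hM.2.1
    (Helper77.memLocalIdeal_mul hM.2.1 (h.w_mem hM hcd) hA)
    (Helper77.memLocalIdeal_mul hM.2.1
      (Helper77.memLocalRing_mul hM.2.1 (h.w_mem hM hc) (h.w_mem hM hd)) hB)

theorem RelLocal.w_pow (hM : Cfsg.IsPModular p M) (h : RelLocal p M N C ψ) {c : G}
    (hc : c ∈ C) (k : ℕ) : Cfsg.MemLocalIdeal M ((ψ c / ψ 1) ^ k - ψ (c ^ k) / ψ 1) := by
  induction k with
  | zero =>
    rw [pow_zero, pow_zero, div_self h.mult.one_ne, sub_self]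
    exact Helper77.memLocalIdeal_zero hM.2.1
  | succ k ih =>
    have h1 : (ψ c / ψ 1) ^ (k + 1) - ψ (c ^ (k + 1)) / ψ 1 =
        ((ψ c / ψ 1) ^ k - ψ (c ^ k) / ψ 1) * (ψ c / ψ 1) +
          (ψ (c ^ k) / ψ 1 * (ψ c / ψ 1) - ψ (c ^ k * c) / ψ 1) := by
      rw [pow_succ c k]; ring
    rw [h1]
    exact Helper77.memLocalIdeal_add hM.2.1
      (Helper77.memLocalIdeal_mul' hM.2.1 ih (h.w_mem hM hc))
      (h.w_mul hM (C.pow_mem hc k) hc)

theorem RelLocal.omega_congr (hM : Cfsg.IsPModular p M) (h : RelLocal p M N C ψ) (x : G) {c : G}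
    (hc : c ∈ C) (hxc : x * c⁻¹ ∈ N) :
    Cfsg.MemLocalIdeal M (relOmega N ψ x - ((relCls N x).card : ℂ) * (ψ c / ψ 1)) := by
  have hD := h.tri x c⁻¹ 1 (by simpa using hxc)
  rw [relOmega_one h.mult, relCls_one, Finset.card_singleton, mul_one, mul_one] at hD
  have hci := h.cop _ (C.inv_mem hc)
  have hE : Cfsg.MemLocalIdeal M (relOmega N ψ x * (ψ c⁻¹ / ψ 1) - ((relCls N x).card : ℂ)) := by
    have h2 := Helper77.memLocalIdeal_mul hM.2.1 (Helper77.memLocalRing_natCast_inv hM hci) hD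
    have h3 : relOmega N ψ x * (ψ c⁻¹ / ψ 1) - ((relCls N x).card : ℂ) =
        ((relCls N c⁻¹).card : ℂ)⁻¹ * (relOmega N ψ x * relOmega N ψ c⁻¹ -
          (((relCls N x).card * (relCls N c⁻¹).card : ℕ) : ℂ)) := by
      simp only [relOmega]
      have := RelLocal.card_ne (N := N) c⁻¹
      have := h.mult.one_ne
      push_cast
      field_simp
    rw [h3]
    exact h2
  have hB := h.w_inv hM hc
  have h1 : relOmega N ψ x - ((relCls N x).card : ℂ) * (ψ c / ψ 1) =
      ψ c / ψ 1 * (relOmega N ψ x * (ψ c⁻¹ / ψ 1) - ((relCls N x).card : ℂ)) -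
        relOmega N ψ x * (ψ c / ψ 1 * (ψ c⁻¹ / ψ 1) - 1) := by ring
  rw [h1]
  exact Helper77.memLocalIdeal_sub hM.2.1
    (Helper77.memLocalIdeal_mul hM.2.1 (h.w_mem hM hc) hE)
    (Helper77.memLocalIdeal_mul hM.2.1
      (Helper77.memLocalRing_of_isIntegral hM.2.1 (relOmega_isIntegral h.mult x)) hB)

end local_lemmas

end Cfsg.Agent.Helper78
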