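import Cfsg.Agent.Helper78.RelCls

/-!
# Relative central characters

`relOmega N ψ x = |x^N| ψ(x) / ψ(1)`.  For `ψ` multiplicative on `N`-class sums (`RelMult`):
integrality, the triple product formula, and the congruence modulo the local ideal when the
restriction of `ψ` to the normal subgroup `N` lies in the principal block.
-/

set_option autoImplicit false
open Cfsg
open scoped ComplexConjugate

namespace Cfsg.Agent.Helper78

universe u

variable {G : Type u} [Group G] [Fintype G]

/-- `ψ` is multiplicative on `N`-class sums, as is the character of a representation of `G` whose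
restriction to `N` is irreducible. -/
structure RelMult (N : Subgroup G) (ψ : G → ℂ) : Prop where
  one_ne : ψ 1 ≠ 0
  cls : ∀ g x : G, ψ (g * x * g⁻¹) = ψ x
  mul : ∀ x y : G, ∑ x' ∈ relCls N x, ψ (x' * y) = ((relCls N x).card : ℂ) * ψ x * ψ y / ψ 1

theorem relMult_of_rep {d : ℕ} (ρ : Representation ℂ G (Fin d → ℂ)) (N : Subgroup G)
    (σ : Representation ℂ N (Fin d → ℂ)) (hσ : ∀ n : N, σ n = ρ n) (hirr : σ.IsIrreducible) :
    RelMult N ρ.character := by
  classical
  haveI : Fintype N := Fintype.ofFinite N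
  have hd : (d : ℂ) ≠ 0 := by
    have h1 := Helper80.rep_finrank_pos σ
    rw [Module.finrank_fin_fun] at h1
    exact_mod_cast h1.ne'
  have h1 : ρ.character 1 = (d : ℂ) := by
    rw [Representation.char_one]; simp
  refine ⟨by rw [h1]; exact hd, fun g x => Representation.char_conj ρ x g, fun x y => ?_⟩
  have h2 := sum_conj_eq N x (fun z => ρ.character (z * y))
  beta_reduce at h2
  rw [rel_sum_char ρ N σ hσ hirr x y] at h2
  have hN : (Fintype.card N : ℂ) ≠ 0 := by exact_mod_cast Fintype.card_ne_zero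
  rw [h1]
  apply mul_left_cancel₀ hN
  rw [← h2]
  field_simp

/-- The relative central character `|x^N| ψ(x) / ψ(1)`. -/
noncomputable def relOmega (N : Subgroup G) (ψ : G → ℂ) (x : G) : ℂ :=
  ((relCls N x).card : ℂ) * ψ x / ψ 1

theorem relOmega_mul {N : Subgroup G} {ψ : G → ℂ} (h : RelMult N ψ) (x l : G) :
    ∑ y ∈ relCls N x, ψ (y * l) = relOmega N ψ x * ψ l := by
  rw [h.mul, relOmega]
  have := h.one_ne
  field_simp

theorem relOmega_one {N : Subgroup G} {ψ : G → ℂ} (h : RelMult N ψ) : relOmega N ψ 1 = 1 := by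
  rw [relOmega, relCls_one, Finset.card_singleton, Nat.cast_one, one_mul, div_self h.one_ne]

/-- **Relative central character values are algebraic integers.** -/
theorem relOmega_isIntegral {N : Subgroup G} {ψ : G → ℂ} (h : RelMult N ψ) (x : G) :
    IsIntegral ℤ (relOmega N ψ x) := by
  let S : Submodule ℤ ℂ := Submodule.span ℤ (Set.range (fun l : G => ψ l / ψ 1))
  apply isIntegral_of_smul_mem_submodule S
  · intro h0
    have h1 : (1 : ℂ) ∈ S := Submodule.subset_span ⟨1, div_self h.one_ne⟩
    rw [h0] at h1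
    simp at h1
  · exact Submodule.fg_span (Set.finite_range _)
  · intro n hn
    induction hn using Submodule.span_induction with
    | mem z hz =>
      obtain ⟨l, rfl⟩ := hz
      rw [smul_eq_mul, ← mul_div_assoc, ← relOmega_mul h, Finset.sum_div]
      exact Submodule.sum_mem _ (fun y _ => Submodule.subset_span ⟨y * l, rfl⟩)
    | zero => simp
    | add a b _ _ ha hb => rw [smul_add]; exact add_mem ha hb
    | smul k a _ ha => rw [smul_comm]; exact Submodule.smul_mem _ _ ha

/-- The triple product of relative central characters as a sum over triples. -/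
theorem relOmega_triple {N : Subgroup G} {ψ : G → ℂ} (h : RelMult N ψ) (x y u : G) :
    ∑ t ∈ relCls N x ×ˢ (relCls N y ×ˢ relCls N u), ψ (t.1 * (t.2.1 * t.2.2)) =
      relOmega N ψ x * relOmega N ψ y * relOmega N ψ u * ψ 1 := by
  rw [Finset.sum_product, Finset.sum_comm]
  simp only [relOmega_mul h]
  rw [← Finset.mul_sum, Finset.sum_product, Finset.sum_comm]
  simp only [relOmega_mul h]
  rw [← Finset.mul_sum]
  have h1 : ∑ u' ∈ relCls N u, ψ u' = relOmega N ψ u * ψ 1 := by
    have h2 : ∀ u' ∈ relCls N u, ψ u' = ψ u := by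
      intro u' hu'
      rw [mem_relCls] at hu'
      obtain ⟨n, _, rfl⟩ := hu'
      exact h.cls n u
    rw [Finset.sum_congr rfl h2, Finset.sum_const, nsmul_eq_mul, relOmega]
    have := h.one_ne
    field_simp
  rw [h1]
  ring

/-- **Principal block congruence for triples.**  If `ψ` restricts to a character `θ` of the
principal block of the normal subgroup `N` and `x y u ∈ N`, then
`ω(x) ω(y) ω(u) ≡ |x^N| |y^N| |u^N|` modulo the local ideal. -/
theorem relOmega_triple_congr {p : ℕ} {M : Ideal Cfsg.AlgInt} (hM : Cfsg.IsPModular p M)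
    (N : Subgroup G) [N.Normal] {ψ : G → ℂ} (h : RelMult N ψ) (θ : Cfsg.IrrCharacter N)
    (hθψ : ∀ n : N, ψ n = (θ : N → ℂ) n) (hθ : θ ∈ Cfsg.principalBlock M N)
    (x y u : G) (hxyu : x * (y * u) ∈ N) :
    Cfsg.MemLocalIdeal M (relOmega N ψ x * relOmega N ψ y * relOmega N ψ u -
      (((relCls N x).card * ((relCls N y).card * (relCls N u).card) : ℕ) : ℂ)) := by
  classical
  haveI : Fintype N := Fintype.ofFinite N
  obtain ⟨T, hT⟩ : ∃ T, T = relCls N x ×ˢ (relCls N y ×ˢ relCls N u) := ⟨_, rfl⟩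
  have hπ : ∀ t ∈ T, t.1 * (t.2.1 * t.2.2) ∈ N := by
    intro t ht
    rw [hT, Finset.mem_product, Finset.mem_product] at ht
    have h1 := relCls_coset N ht.1
    have h2 := relCls_coset N ht.2.1
    have h3 := relCls_coset N ht.2.2
    rw [← QuotientGroup.eq_one_iff] at h1 h2 h3 hxyu ⊢
    simp only [QuotientGroup.mk_mul, QuotientGroup.mk_inv, mul_inv_eq_one] at h1 h2 h3 hxyu ⊢
    rw [h1, h2, h3]
    exact hxyu
  obtain ⟨a, ha_def⟩ : ∃ a : N → ℂ, a = fun z : N =>
      (((T.filter (fun t => t.1 * (t.2.1 * t.2.2) = (z : G))).card : ℕ) : ℂ) := ⟨_, rfl⟩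
  have ha : Cfsg.IsClassFunction N a := by
    intro g k
    rw [ha_def]
    beta_reduce
    congr 1
    apply Finset.card_nbij'
      (fun t => ((k : G)⁻¹ * t.1 * (k : G), ((k : G)⁻¹ * t.2.1 * (k : G),
        (k : G)⁻¹ * t.2.2 * (k : G))))
      (fun t => ((k : G) * t.1 * (k : G)⁻¹, ((k : G) * t.2.1 * (k : G)⁻¹,
        (k : G) * t.2.2 * (k : G)⁻¹)))
    · intro t ht
      simp only [Finset.coe_filter, Set.mem_setOf_eq, hT, Finset.mem_product] at ht ⊢
      have hk : (k : G)⁻¹ ∈ N := N.inv_mem k.2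
      refine ⟨⟨?_, ?_, ?_⟩, ?_⟩
      · simpa using conj_mem_relCls N hk ht.1.1
      · simpa using conj_mem_relCls N hk ht.1.2.1
      · simpa using conj_mem_relCls N hk ht.1.2.2
      · have h1 : (k : G)⁻¹ * t.1 * (k : G) * ((k : G)⁻¹ * t.2.1 * (k : G) *
            ((k : G)⁻¹ * t.2.2 * (k : G))) = (k : G)⁻¹ * (t.1 * (t.2.1 * t.2.2)) * (k : G) := by
          group
        rw [h1, ht.2]
        simp only [Subgroup.coe_mul, Subgroup.coe_inv]
        group
    · intro t ht
      simp only [Finset.coe_filter, Set.mem_setOf_eq, hT, Finset.mem_product] at ht ⊢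
      refine ⟨⟨?_, ?_, ?_⟩, ?_⟩
      · exact conj_mem_relCls N k.2 ht.1.1
      · exact conj_mem_relCls N k.2 ht.1.2.1
      · exact conj_mem_relCls N k.2 ht.1.2.2
      · have h1 : (k : G) * t.1 * (k : G)⁻¹ * ((k : G) * t.2.1 * (k : G)⁻¹ *
            ((k : G) * t.2.2 * (k : G)⁻¹)) = (k : G) * (t.1 * (t.2.1 * t.2.2)) * (k : G)⁻¹ := by
          group
        rw [h1, ht.2]
        simp only [Subgroup.coe_mul, Subgroup.coe_inv]
    · intro t _
      ext <;> simp <;> group
    · intro t _
      ext <;> simp <;> group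
  have haS : ∀ g, Cfsg.MemLocalRing M (a g) := by
    intro g
    rw [ha_def]
    exact Helper77.memLocalRing_of_isIntegral hM.2.1 (isIntegral_natCast _)
  -- fibrewise sums
  have hfib : ∀ F : G → ℂ, ∑ z : N, a z * F (z : G) = ∑ t ∈ T, F (t.1 * (t.2.1 * t.2.2)) := by
    intro F
    rw [← Finset.sum_fiberwise T
      (fun t => if ht : t.1 * (t.2.1 * t.2.2) ∈ N then (⟨_, ht⟩ : N) else 1)]
    apply Finset.sum_congr rfl
    intro z _
    have h1 : T.filter (fun t => (if ht : t.1 * (t.2.1 * t.2.2) ∈ N then (⟨_, ht⟩ : N) else 1)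
        = z) = T.filter (fun t => t.1 * (t.2.1 * t.2.2) = (z : G)) := by
      apply Finset.filter_congr
      intro t ht
      rw [dif_pos (hπ t ht)]
      exact Subtype.ext_iff
    rw [h1]
    have h2 : ∀ t ∈ T.filter (fun t => t.1 * (t.2.1 * t.2.2) = (z : G)),
        F (t.1 * (t.2.1 * t.2.2)) = F (z : G) := by
      intro t ht
      rw [(Finset.mem_filter.1 ht).2]
    rw [Finset.sum_congr rfl h2, Finset.sum_const, nsmul_eq_mul, ha_def]
  have h1N : ((1 : N) : G) = 1 := rfl
  have hom1 : Helper81.omega ((θ : N → ℂ)) a =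
      relOmega N ψ x * relOmega N ψ y * relOmega N ψ u := by
    rw [Helper81.omega]
    have h1 : ∑ z : N, a z * (θ : N → ℂ) z = ∑ z : N, a z * ψ (z : G) :=
      Finset.sum_congr rfl (fun z _ => by rw [hθψ])
    rw [h1, hfib ψ, hT, relOmega_triple h, ← hθψ 1, h1N]
    exact mul_div_cancel_right₀ _ h.one_ne
  have hom2 : Helper81.omega (fun _ : N => (1 : ℂ)) a =
      (((relCls N x).card * ((relCls N y).card * (relCls N u).card) : ℕ) : ℂ) := by
    rw [Helper81.omega]
    have h1 := hfib (fun _ => 1)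
    rw [h1, Finset.sum_const, hT, Finset.card_product, Finset.card_product]
    simp
  have key := Helper16.omega_sub_memLocalIdeal hM.2.1 (Helper81.trivIrr N) θ hθ ha haS
  have key2 := Helper77.memLocalIdeal_neg key
  rw [neg_sub, hom1] at key2
  rw [← hom2]
  exact key2

end Cfsg.Agent.Helper78
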