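import Cfsg.Agent.Helper78.RelLift

/-!
# The twisting linear character

`exists_twist`: in the situation of `RelLocal` with `N C = G`, there is a linear character `f` of
`G`, trivial on `N`, such that `|x^N| ψ(x) / (f(x) ψ(1)) ≡ |x^N|` modulo the local ideal for all
`x : G`.
-/

set_option autoImplicit false
open Cfsg
open scoped ComplexConjugate

namespace Cfsg.Agent.Helper78

universe u

variable {G : Type u} [Group G] [Fintype G]

theorem exists_twist {p : ℕ} {M : Ideal Cfsg.AlgInt} (hM : Cfsg.IsPModular p M)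
    {N C : Subgroup G} [N.Normal] (hNC : N ⊔ C = ⊤) {ψ : G → ℂ} (h : RelLocal p M N C ψ) :
    ∃ f : G →* ℂˣ, (∀ n ∈ N, f n = 1) ∧
      ∀ x : G, Cfsg.MemLocalIdeal M
        (relOmega N ψ x * (f x : ℂ)⁻¹ - ((relCls N x).card : ℂ)) := by
  classical
  have hp := hM.1
  have hcard0 : Fintype.card G ≠ 0 := Fintype.card_ne_zero
  obtain ⟨m, hm⟩ : ∃ m, m = Fintype.card G / p ^ (Fintype.card G).factorization p := ⟨_, rfl⟩
  have hm0 : 0 < m := by rw [hm]; exact Nat.ordCompl_pos p hcard0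
  have hpm : ¬ p ∣ m := by rw [hm]; exact Nat.not_dvd_ordCompl hp hcard0
  obtain ⟨a, ha⟩ : ∃ a, p ^ a * m = Fintype.card G :=
    ⟨_, by rw [hm]; exact Nat.ordProj_mul_ordCompl_eq_self _ p⟩
  have hrootint : ∀ ζ : ℂ, ζ ^ m = 1 → IsIntegral ℤ ζ := fun ζ hζ => by
    apply IsIntegral.of_pow hm0; rw [hζ]; exact isIntegral_one
  -- every element of `C` lifts
  have hroot : ∀ c ∈ C, ∃ ζ : ℂ, ζ ^ m = 1 ∧ Cfsg.MemLocalIdeal M (ψ c / ψ 1 - ζ) := by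
    intro c hc
    apply exists_root_congr hM.2.1 (h.w_mem hM hc) hm0
    have hvm : Cfsg.MemLocalRing M ((ψ c / ψ 1) ^ m) :=
      (Helper77.localSubring M hM.2.1).pow_mem (h.w_mem hM hc) m
    apply memLocalIdeal_sub_one_of_pow hM hvm a
    have h1 := h.w_pow hM hc (Fintype.card G)
    rw [pow_card_eq_one, div_self h.mult.one_ne] at h1
    rwa [← pow_mul, mul_comm, ha]
  have hcos : ∀ g : G, ∃ c ∈ C, g * c⁻¹ ∈ N := by
    intro g
    have hg : g ∈ (↑(N ⊔ C) : Set G) := by rw [hNC]; trivial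
    rw [Subgroup.normal_mul] at hg
    obtain ⟨n, hn, c, hc, rfl⟩ := Set.mem_mul.1 hg
    exact ⟨c, hc, by simpa using hn⟩
  -- `ψ/ψ(1)` is well defined on cosets modulo the local ideal
  have hwd : ∀ c ∈ C, ∀ c' ∈ C, c' * c⁻¹ ∈ N →
      Cfsg.MemLocalIdeal M (ψ c' / ψ 1 - ψ c / ψ 1) := by
    intro c hc c' hc' hN
    have he : c' * c⁻¹ ∈ C := C.mul_mem hc' (C.inv_mem hc)
    have h1 := h.w_of_mem hM he hN
    have h2 := h.w_mul hM he hc
    rw [inv_mul_cancel_right] at h2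
    have h3 : ψ c' / ψ 1 - ψ c / ψ 1 = (ψ (c' * c⁻¹) / ψ 1 - 1) * (ψ c / ψ 1) -
        (ψ (c' * c⁻¹) / ψ 1 * (ψ c / ψ 1) - ψ c' / ψ 1) := by ring
    rw [h3]
    exact Helper77.memLocalIdeal_sub hM.2.1
      (Helper77.memLocalIdeal_mul' hM.2.1 h1 (h.w_mem hM hc)) h2
  -- the lifting relation
  obtain ⟨Lift, hLift⟩ : ∃ Lift : G → ℂ → Prop, Lift = fun g ζ =>
      ζ ^ m = 1 ∧ ∃ c ∈ C, g * c⁻¹ ∈ N ∧ Cfsg.MemLocalIdeal M (ψ c / ψ 1 - ζ) := ⟨_, rfl⟩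
  have hex : ∀ g, ∃ ζ, Lift g ζ := by
    intro g
    obtain ⟨c, hc, hgc⟩ := hcos g
    obtain ⟨ζ, hζ, hζ'⟩ := hroot c hc
    exact ⟨ζ, by rw [hLift]; exact ⟨hζ, c, hc, hgc, hζ'⟩⟩
  have huniq : ∀ g ζ ζ', Lift g ζ → Lift g ζ' → ζ = ζ' := by
    intro g ζ ζ' h1 h2
    rw [hLift] at h1 h2
    obtain ⟨hζ, c, hc, hgc, hcζ⟩ := h1
    obtain ⟨hζ', c', hc', hgc', hcζ'⟩ := h2
    have hcc : c' * c⁻¹ ∈ N := by
      have : c' * c⁻¹ = (g * c'⁻¹)⁻¹ * (g * c⁻¹) := by group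
      rw [this]; exact N.mul_mem (N.inv_mem hgc') hgc
    have h3 := hwd c hc c' hc' hcc
    have h4 : Cfsg.MemLocalIdeal M (ζ - ζ') := by
      have : ζ - ζ' = (ψ c' / ψ 1 - ζ') - (ψ c' / ψ 1 - ψ c / ψ 1) - (ψ c / ψ 1 - ζ) := by ring
      rw [this]
      exact Helper77.memLocalIdeal_sub hM.2.1 (Helper77.memLocalIdeal_sub hM.2.1 hcζ' h3) hcζ
    have hζ'0 : ζ' ≠ 0 := by
      intro h0; rw [h0, zero_pow hm0.ne'] at hζ'; exact zero_ne_one hζ'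
    have h5 : (ζ * ζ'⁻¹) ^ m = 1 := by rw [mul_pow, inv_pow, hζ, hζ', inv_one, mul_one]
    have hinvint : IsIntegral ℤ ζ'⁻¹ := hrootint _ (by rw [inv_pow, hζ', inv_one])
    have h6 : Cfsg.MemLocalIdeal M (ζ * ζ'⁻¹ - 1) := by
      have : ζ * ζ'⁻¹ - 1 = (ζ - ζ') * ζ'⁻¹ := by field_simp
      rw [this]
      exact Helper77.memLocalIdeal_mul' hM.2.1 h4
        (Helper77.memLocalRing_of_isIntegral hM.2.1 hinvint)
    have h7 := Helper72.eq_one_of_memLocalIdeal_sub_one hM hpm h5 h6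
    exact (mul_inv_eq_one₀ hζ'0).1 h7
  obtain ⟨φ, hφ⟩ : ∃ φ : G → ℂ, ∀ g, Lift g (φ g) :=
    ⟨fun g => (hex g).choose, fun g => (hex g).choose_spec⟩
  have hφmul : ∀ g k, φ (g * k) = φ g * φ k := by
    intro g k
    apply huniq (g * k) _ _ (hφ _)
    have h1 := hφ g
    have h2 := hφ k
    rw [hLift] at h1 h2 ⊢
    obtain ⟨hζ, c, hc, hgc, hcζ⟩ := h1
    obtain ⟨hζ', c', hc', hgc', hcζ'⟩ := h2
    refine ⟨by rw [mul_pow, hζ, hζ', one_mul], c * c', C.mul_mem hc hc', ?_, ?_⟩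
    · have h3 : g * k * (c * c')⁻¹ = g * (k * c'⁻¹) * g⁻¹ * (g * c⁻¹) := by group
      rw [h3]
      exact N.mul_mem (Subgroup.Normal.conj_mem inferInstance _ hgc' g) hgc
    · have h3 := h.w_mul hM hc hc'
      have h4 : ψ (c * c') / ψ 1 - φ g * φ k = (ψ c / ψ 1 - φ g) * (ψ c' / ψ 1) +
          φ g * (ψ c' / ψ 1 - φ k) - (ψ c / ψ 1 * (ψ c' / ψ 1) - ψ (c * c') / ψ 1) := by ring
      rw [h4]
      exact Helper77.memLocalIdeal_sub hM.2.1 (Helper77.memLocalIdeal_add hM.2.1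
        (Helper77.memLocalIdeal_mul' hM.2.1 hcζ (h.w_mem hM hc'))
        (Helper77.memLocalIdeal_mul hM.2.1
          (Helper77.memLocalRing_of_isIntegral hM.2.1 (hrootint _ hζ)) hcζ')) h3
  have hφN : ∀ n ∈ N, φ n = 1 := by
    intro n hn
    apply huniq n _ _ (hφ n)
    rw [hLift]
    refine ⟨one_pow m, 1, C.one_mem, by simpa using hn, ?_⟩
    rw [div_self h.mult.one_ne, sub_self]
    exact Helper77.memLocalIdeal_zero hM.2.1
  obtain ⟨f0, hf0⟩ : ∃ f0 : G →* ℂ, ∀ g, f0 g = φ g :=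
    ⟨{ toFun := φ, map_one' := hφN 1 N.one_mem, map_mul' := hφmul }, fun _ => rfl⟩
  refine ⟨f0.toHomUnits, fun n hn => ?_, fun x => ?_⟩
  · apply Units.ext
    rw [MonoidHom.coe_toHomUnits, hf0]
    exact hφN n hn
  · rw [MonoidHom.coe_toHomUnits, hf0]
    have h1 := hφ x
    rw [hLift] at h1
    obtain ⟨hζ, c, hc, hxc, hcζ⟩ := h1
    have h2 := h.omega_congr hM x hc hxc
    have hφ0 : φ x ≠ 0 := by
      intro h0; rw [h0, zero_pow hm0.ne'] at hζ; exact zero_ne_one hζ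
    have hinvint : IsIntegral ℤ (φ x)⁻¹ := hrootint _ (by rw [inv_pow, hζ, inv_one])
    have h3 : relOmega N ψ x * (φ x)⁻¹ - ((relCls N x).card : ℂ) =
        (φ x)⁻¹ * ((relOmega N ψ x - ((relCls N x).card : ℂ) * (ψ c / ψ 1)) +
          ((relCls N x).card : ℂ) * (ψ c / ψ 1 - φ x)) := by
      field_simp
      ring
    rw [h3]
    exact Helper77.memLocalIdeal_mul hM.2.1 (Helper77.memLocalRing_of_isIntegral hM.2.1 hinvint)
      (Helper77.memLocalIdeal_add hM.2.1 h2 (Helper77.memLocalIdeal_mul hM.2.1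
        (Helper77.memLocalRing_of_isIntegral hM.2.1 (isIntegral_natCast _)) hcζ))

end Cfsg.Agent.Helper78
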