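import Cfsg.Agent.Helper67.S77Defs

/-!
Piece F5 of the uniqueness of the strongly regular graph with parameters (77, 16, 0, 4)
(statement S0429): every pair of distinct nonadjacent vertices has exactly three parallels.
-/

set_option autoImplicit false
set_option linter.unusedSectionVars false
set_option linter.unusedVariables false

namespace Cfsg.Agent.Helper78.S77F5

open Finset
open Cfsg.Agent.Helper67.S77

variable {V : Type*} [Fintype V] [DecidableEq V] {G : SimpleGraph V} [DecidableRel G.Adj]

theorem p_F5 (h1 : F1 G) (h2 : F2 G) (h3 : F3 G) (h4 : F4 G) : F5 G := by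
  intro x y hxy
  have e1 := h1 x y hxy
  have e2 := h2 x y hxy
  have e3 := h3 x y hxy
  have e4 := h4 x y hxy
  have key : ∀ z ∈ Rs G x y, (t3 G x y z) ^ 2 + 2 =
      3 * t3 G x y z + 2 * (if t3 G x y z = 0 then 1 else 0) := by
    intro z hz
    have hle := e4 z hz
    generalize t3 G x y z = t at hle ⊢
    interval_cases t <;> simp
  have hsum := Finset.sum_congr (rfl : Rs G x y = Rs G x y) key
  rw [Finset.sum_add_distrib, Finset.sum_add_distrib, ← Finset.mul_sum, ← Finset.mul_sum, e3, e2]
    at hsum
  simp only [Finset.sum_const, smul_eq_mul, e1] at hsum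
  have hpar : (Par G x y).card = ∑ z ∈ Rs G x y, (if t3 G x y z = 0 then 1 else 0) := by
    unfold Par
    rw [Finset.card_filter]
  omega

end Cfsg.Agent.Helper78.S77F5
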