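import Mathlib

/-!
# Fibre powers over a quotient with kernel of exponent two

If `π : H →* Q` has a kernel of exponent two, the fibre power
`{h : Fin (k+1) → H | all π (h i) equal}` has exactly the same element orders as `H`,
and its order tends to infinity with `k` as soon as the kernel is nontrivial.
-/

set_option autoImplicit false

namespace Cfsg.Agent.Helper78

/-- `n ∣ m ∣ 2n` and `m ∤ n` force `m = 2n`. -/
theorem sf_eq_two_mul {n m : ℕ} (h1 : n ∣ m) (h2 : m ∣ 2 * n) (h3 : ¬ m ∣ n) : m = 2 * n := by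
  obtain ⟨c, rfl⟩ := h1
  rcases Nat.eq_zero_or_pos n with hn | hn
  · subst hn; simp at h3
  have hc : c ∣ 2 := by
    have : n * c ∣ n * 2 := by rwa [mul_comm n 2]
    exact Nat.dvd_of_mul_dvd_mul_left hn this
  have hc2 : c ≤ 2 := Nat.le_of_dvd (by norm_num) hc
  interval_cases c
  · simp at hc
  · simp at h3
  · ring

/-- The order of `x` is squeezed between the order of its image and twice that order when
the kernel has exponent two. -/
theorem sf_orderOf_dvd {H Q : Type*} [Group H] [Group Q] (π : H →* Q)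
    (hk : ∀ x ∈ π.ker, x ^ 2 = 1) (x : H) :
    orderOf (π x) ∣ orderOf x ∧ orderOf x ∣ 2 * orderOf (π x) := by
  refine ⟨orderOf_map_dvd π x, ?_⟩
  apply orderOf_dvd_of_pow_eq_one
  have hmem : x ^ orderOf (π x) ∈ π.ker := by
    rw [MonoidHom.mem_ker, map_pow, pow_orderOf_eq_one]
  have := hk _ hmem
  rw [← pow_mul, mul_comm] at this
  exact this

/-- The fibre power of `H` over `π`. -/
def sfFib {H Q : Type*} [Group H] [Group Q] (π : H →* Q) (k : ℕ) : Subgroup (Fin k → H) where
  carrier := {h | ∀ i j, π (h i) = π (h j)}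
  one_mem' := by intro i j; simp
  mul_mem' := by
    intro a b ha hb i j
    simp only [Pi.mul_apply, map_mul]
    rw [ha i j, hb i j]
  inv_mem' := by
    intro a ha i j
    simp only [Pi.inv_apply, map_inv]
    rw [ha i j]

theorem sf_mem_fib {H Q : Type*} [Group H] [Group Q] (π : H →* Q) (k : ℕ) (h : Fin k → H) :
    h ∈ sfFib π k ↔ ∀ i j, π (h i) = π (h j) := Iff.rfl

/-- The diagonal embedding. -/
def sfDiag {H Q : Type*} [Group H] [Group Q] (π : H →* Q) (k : ℕ) : H →* sfFib π k where
  toFun x := ⟨fun _ => x, fun _ _ => rfl⟩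
  map_one' := rfl
  map_mul' _ _ := rfl

theorem sfDiag_injective {H Q : Type*} [Group H] [Group Q] (π : H →* Q) (k : ℕ) :
    Function.Injective (sfDiag π (k + 1)) := by
  intro x y hxy
  have := congrArg (fun z : sfFib π (k + 1) => (z : Fin (k + 1) → H) 0) hxy
  exact this

/-- The element orders of the fibre power are those of `H`. -/
theorem sf_range_orderOf {H Q : Type*} [Group H] [Group Q] (π : H →* Q)
    (hk : ∀ x ∈ π.ker, x ^ 2 = 1) (k : ℕ) :
    Set.range (orderOf : sfFib π (k + 1) → ℕ) = Set.range (orderOf : H → ℕ) := by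
  apply Set.Subset.antisymm
  · rintro _ ⟨⟨h, hh⟩, rfl⟩
    rw [Subgroup.orderOf_mk]
    rw [sf_mem_fib] at hh
    obtain ⟨n, hn⟩ : ∃ n, n = orderOf (π (h 0)) := ⟨_, rfl⟩
    have hcomp : ∀ i, n ∣ orderOf (h i) ∧ orderOf (h i) ∣ 2 * n := by
      intro i
      have := sf_orderOf_dvd π hk (h i)
      rw [hh i 0, ← hn] at this
      exact this
    have hdvd : ∀ i, orderOf (h i) ∣ orderOf h := by
      intro i
      exact orderOf_map_dvd (Pi.evalMonoidHom (fun _ : Fin (k + 1) => H) i) h
    have hpow : ∀ m : ℕ, (∀ i, (h i) ^ m = 1) → orderOf h ∣ m := by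
      intro m hm
      apply orderOf_dvd_of_pow_eq_one
      funext i
      simpa using hm i
    by_cases hall : ∀ i, (h i) ^ n = 1
    · refine ⟨h 0, ?_⟩
      have h1 : orderOf h ∣ n := hpow n hall
      have h2 : orderOf (h 0) ∣ n := orderOf_dvd_of_pow_eq_one (hall 0)
      have h3 := (hcomp 0).1
      have h4 := hdvd 0
      exact Nat.dvd_antisymm h4 (h1.trans h3)
    · push Not at hall
      obtain ⟨i1, hi1⟩ := hall
      refine ⟨h i1, ?_⟩
      have hnd : ¬ orderOf (h i1) ∣ n := fun hd => hi1 (orderOf_dvd_iff_pow_eq_one.mp hd)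
      have heq : orderOf (h i1) = 2 * n := sf_eq_two_mul (hcomp i1).1 (hcomp i1).2 hnd
      have h1 : orderOf h ∣ 2 * n := by
        apply hpow
        intro i
        exact orderOf_dvd_iff_pow_eq_one.mp (hcomp i).2
      rw [← heq] at h1
      exact Nat.dvd_antisymm (hdvd i1) h1
  · rintro _ ⟨x, rfl⟩
    exact ⟨sfDiag π (k + 1) x, orderOf_injective (sfDiag π (k + 1)) (sfDiag_injective π k) x⟩

/-- The fibre power is large when the kernel is nontrivial. -/
theorem sf_card_lt {H Q : Type*} [Group H] [Group Q] [Finite H] (π : H →* Q)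
    (z : H) (hz : z ∈ π.ker) (hz1 : z ≠ 1) (k : ℕ) :
    k < Nat.card (sfFib π k) := by
  classical
  have : Finite (sfFib π k) := Subtype.finite
  let f : (Fin k → Bool) → sfFib π k := fun b =>
    ⟨fun i => if b i then z else 1, by
      intro i j
      have hz' : π z = 1 := hz
      by_cases hi : b i <;> by_cases hj : b j <;> simp [hi, hj, hz']⟩
  have hf : Function.Injective f := by
    intro b c hbc
    funext i
    have := congrArg (fun y : sfFib π k => (y : Fin k → H) i) hbc
    simp only [f] at this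
    by_cases hi : b i <;> by_cases hj : c i <;> simp_all
  have hcard := Nat.card_le_card_of_injective f hf
  have h2 : Nat.card (Fin k → Bool) = 2 ^ k := by
    rw [Nat.card_eq_fintype_card]; simp
  have := Nat.lt_two_pow_self (n := k)
  omega

end Cfsg.Agent.Helper78
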