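import Mathlib
import Cfsg.Agent.Lead.SpecS8

/-!
# Cycle types of even permutations of degree 8
-/

set_option autoImplicit false

namespace Cfsg.Agent.Helper78

open Cfsg.Agent.Lead

/-- Even cycle types of degree at most 8: the order is at most 6, or the type is `{7}`
or `{5, 3}`. -/
theorem sf_ms_even (m : Multiset ℕ) (h2 : ∀ a ∈ m, 2 ≤ a) (hs : m.sum ≤ 8)
    (hev : Even (m.sum + Multiset.card m)) :
    m.lcm ∈ ({1, 2, 3, 4, 5, 6} : Set ℕ) ∨ m = {7} ∨ m = 5 ::ₘ {3} := by
  by_cases h7 : ∃ a ∈ m, 7 ≤ a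
  · obtain ⟨a, ha, ha7⟩ := h7
    obtain ⟨t, rfl⟩ := Multiset.exists_cons_of_mem ha
    rw [Multiset.sum_cons] at hs
    have ht : t = 0 := ms_eq_zero_of_sum_le_one t
      (fun b hb => h2 b (Multiset.mem_cons_of_mem hb)) (by omega)
    subst ht
    rw [Multiset.sum_zero] at hs
    have : a = 7 ∨ a = 8 := by omega
    rcases this with rfl | rfl
    · right; left; rfl
    · exfalso
      revert hev
      decide
  push Not at h7
  by_cases h5 : 5 ∈ m
  · obtain ⟨t, rfl⟩ := Multiset.exists_cons_of_mem h5
    rw [Multiset.sum_cons] at hs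
    rcases ms_of_sum_le_three t (fun b hb => h2 b (Multiset.mem_cons_of_mem hb)) (by omega)
      with rfl | rfl | rfl
    · left; simp
    · exfalso
      revert hev
      decide
    · right; right; rfl
  by_cases h6 : 6 ∈ m
  · obtain ⟨t, rfl⟩ := Multiset.exists_cons_of_mem h6
    rw [Multiset.sum_cons] at hs
    rcases ms_of_sum_le_three t (fun b hb => h2 b (Multiset.mem_cons_of_mem hb)) (by omega)
      with rfl | rfl | rfl
    · left; simp
    · left
      have : (6 ::ₘ ({2} : Multiset ℕ)).lcm = 6 := by decide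
      rw [this]; simp
    · simp at hs
  -- all parts in {2,3,4}
  have hparts : ∀ a ∈ m, a = 2 ∨ a = 3 ∨ a = 4 := by
    intro a ha
    have h1 := h2 a ha
    have h3 := h7 a ha
    rcases Nat.lt_or_ge a 5 with h | h
    · omega
    · exfalso
      have : a = 5 ∨ a = 6 := by omega
      rcases this with rfl | rfl
      · exact h5 ha
      · exact h6 ha
  left
  by_cases h3 : 3 ∈ m
  · by_cases h4 : 4 ∈ m
    · exfalso
      obtain ⟨t, rfl⟩ := Multiset.exists_cons_of_mem h3
      have h4t : 4 ∈ t := by
        rcases Multiset.mem_cons.mp h4 with h | h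
        · omega
        · exact h
      obtain ⟨t', rfl⟩ := Multiset.exists_cons_of_mem h4t
      rw [Multiset.sum_cons, Multiset.sum_cons] at hs
      have ht : t' = 0 := ms_eq_zero_of_sum_le_one t'
        (fun b hb => h2 b (Multiset.mem_cons_of_mem (Multiset.mem_cons_of_mem hb))) (by omega)
      subst ht
      revert hev
      decide
    · have hdvd : m.lcm ∣ 6 := by
        apply Multiset.lcm_dvd.mpr
        intro a ha
        rcases hparts a ha with rfl | rfl | rfl
        · decide
        · decide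
        · exact absurd ha h4
      have hle : m.lcm ≤ 6 := Nat.le_of_dvd (by norm_num) hdvd
      have hpos : m.lcm ≠ 0 := by
        intro h0; rw [h0] at hdvd; simp at hdvd
      generalize m.lcm = k at hdvd hle hpos
      interval_cases k <;> simp_all
  · have hdvd : m.lcm ∣ 4 := by
      apply Multiset.lcm_dvd.mpr
      intro a ha
      rcases hparts a ha with rfl | rfl | rfl
      · decide
      · exact absurd ha h3
      · decide
    have hle : m.lcm ≤ 4 := Nat.le_of_dvd (by norm_num) hdvd
    have hpos : m.lcm ≠ 0 := by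
      intro h0; rw [h0] at hdvd; simp at hdvd
    generalize m.lcm = k at hdvd hle hpos
    interval_cases k <;> simp_all

/-- An even permutation of degree 8 has order at most 6, or cycle type `{7}` or `{5, 3}`. -/
theorem sf_alt_cases (g : Equiv.Perm (Fin 8)) (hg : g ∈ alternatingGroup (Fin 8)) :
    orderOf g ∈ ({1, 2, 3, 4, 5, 6} : Set ℕ) ∨ g.cycleType = {7} ∨ g.cycleType = 5 ::ₘ {3} := by
  rw [← Equiv.Perm.lcm_cycleType]
  apply sf_ms_even
  · intro a ha
    exact Equiv.Perm.two_le_of_mem_cycleType ha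
  · rw [Equiv.Perm.sum_cycleType]
    exact (Finset.card_le_univ _).trans (by simp)
  · have h1 := Equiv.Perm.mem_alternatingGroup.mp hg
    rw [Equiv.Perm.sign_of_cycleType] at h1
    exact (neg_one_pow_eq_one_iff_even (by decide)).mp h1

/-- The standard 7-cycle. -/
def sfC7 : Equiv.Perm (Fin 8) := List.formPerm [0, 1, 2, 3, 4, 5, 6]

/-- The standard element of cycle type `{5, 3}`. -/
def sfC53 : Equiv.Perm (Fin 8) := List.formPerm [0, 1, 2, 3, 4] * List.formPerm [5, 6, 7]

theorem sfC7_cycleType : sfC7.cycleType = {7} := by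
  have hnd : ([0, 1, 2, 3, 4, 5, 6] : List (Fin 8)).Nodup := by decide
  have hc := List.isCycle_formPerm hnd (by simp)
  rw [sfC7, hc.cycleType, List.support_formPerm_of_nodup _ hnd (by intro x; simp)]
  rfl

theorem sfC53_cycleType : sfC53.cycleType = 5 ::ₘ {3} := by
  have hnd5 : ([0, 1, 2, 3, 4] : List (Fin 8)).Nodup := by decide
  have hnd3 : ([5, 6, 7] : List (Fin 8)).Nodup := by decide
  have hc5 := List.isCycle_formPerm hnd5 (by simp)
  have hc3 := List.isCycle_formPerm hnd3 (by simp)
  have hdisj : Equiv.Perm.Disjoint (List.formPerm ([0, 1, 2, 3, 4] : List (Fin 8)))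
      (List.formPerm ([5, 6, 7] : List (Fin 8))) := by
    rw [List.formPerm_disjoint_iff hnd5 hnd3 (by simp) (by simp)]
    intro x hx hx'
    revert hx hx'
    revert x
    decide
  rw [sfC53, hdisj.cycleType_mul, hc5.cycleType, hc3.cycleType,
    List.support_formPerm_of_nodup _ hnd5 (by intro x; simp),
    List.support_formPerm_of_nodup _ hnd3 (by intro x; simp)]
  rfl

/-- A permutation of cycle type `{7}` is a conjugate of the standard one. -/
theorem sf_conj_c7 (g : Equiv.Perm (Fin 8)) (hg : g.cycleType = {7}) :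
    ∃ h : Equiv.Perm (Fin 8), h * sfC7 * h⁻¹ = g := by
  have : IsConj sfC7 g := Equiv.Perm.isConj_iff_cycleType_eq.mpr (by rw [sfC7_cycleType, hg])
  exact isConj_iff.mp this

/-- A permutation of cycle type `{5, 3}` is a conjugate of the standard one. -/
theorem sf_conj_c53 (g : Equiv.Perm (Fin 8)) (hg : g.cycleType = 5 ::ₘ {3}) :
    ∃ h : Equiv.Perm (Fin 8), h * sfC53 * h⁻¹ = g := by
  have : IsConj sfC53 g := Equiv.Perm.isConj_iff_cycleType_eq.mpr (by rw [sfC53_cycleType, hg])
  exact isConj_iff.mp this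

theorem sf_orderOf_of_c7 (g : Equiv.Perm (Fin 8)) (hg : g.cycleType = {7}) : orderOf g = 7 := by
  rw [← Equiv.Perm.lcm_cycleType, hg]; rfl

theorem sf_orderOf_of_c53 (g : Equiv.Perm (Fin 8)) (hg : g.cycleType = 5 ::ₘ {3}) :
    orderOf g = 15 := by
  rw [← Equiv.Perm.lcm_cycleType, hg]; decide

end Cfsg.Agent.Helper78
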