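import Mathlib
import Cfsg.Agent.Helper78.SpecFamA
import Cfsg.Agent.Helper78.SpecFamB

/-!
# The group `2^6 : A_8` inside `F_2^{8×8} ⋊ S_8` (cut model)

`sfH1` is the subgroup of pairs `(c, g)` with `g` even and `c (i, j) = v i + v j` for a vector
`v` of even weight.  The kernel of the projection to `S_8` has exponent two, and an element of
`sfH1` lying over a `7`-cycle or over an element of type `(5, 3)` has the same order as its
image.
-/

set_option autoImplicit false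

namespace Cfsg.Agent.Helper78

open Equiv

/-- The coefficient group. -/
abbrev SfN : Type := Fin 8 × Fin 8 → Multiplicative (ZMod 2)

/-- The action of `S_8` on the coefficient group. -/
abbrev sfPhi : Equiv.Perm (Fin 8) →* MulAut SfN := mulAutArrow

/-- The ambient semidirect product. -/
abbrev SfBig : Type := SfN ⋊[sfPhi] Equiv.Perm (Fin 8)

theorem sfPhi_apply (g : Equiv.Perm (Fin 8)) (f : SfN) (p : Fin 8 × Fin 8) :
    sfPhi g f p = f (g⁻¹ p.1, g⁻¹ p.2) := rfl

/-- The cut function of a vector. -/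
def sfCut (v : Fin 8 → ZMod 2) : SfN := fun p => Multiplicative.ofAdd (v p.1 + v p.2)

theorem sfCut_apply (v : Fin 8 → ZMod 2) (p : Fin 8 × Fin 8) :
    sfCut v p = Multiplicative.ofAdd (v p.1 + v p.2) := rfl

theorem sfCut_zero : sfCut 0 = 1 := by
  funext p
  simp [sfCut]

theorem sfCut_add (v w : Fin 8 → ZMod 2) : sfCut (v + w) = sfCut v * sfCut w := by
  funext p
  simp only [sfCut, Pi.add_apply, Pi.mul_apply, ← ofAdd_add]
  congr 1
  ring

theorem sfPhi_cut (g : Equiv.Perm (Fin 8)) (v : Fin 8 → ZMod 2) :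
    sfPhi g (sfCut v) = sfCut (fun i => v (g⁻¹ i)) := by
  funext p
  rfl

theorem sf_sq (f : SfN) : f * f = 1 := by
  funext p
  have h : ∀ a : Multiplicative (ZMod 2), a * a = 1 := by decide
  exact h (f p)

theorem sf_inv (f : SfN) : f⁻¹ = f := inv_eq_of_mul_eq_one_right (sf_sq f)

/-- The group `2^6 : A_8`. -/
def sfH1 : Subgroup SfBig where
  carrier := {x | (∃ v : Fin 8 → ZMod 2, ∑ i, v i = 0 ∧ x.left = sfCut v) ∧
    x.right ∈ alternatingGroup (Fin 8)}
  one_mem' := ⟨⟨0, by simp, by simp [sfCut_zero]⟩, Subgroup.one_mem _⟩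
  mul_mem' := by
    rintro x y ⟨⟨v, hv, hx⟩, hxr⟩ ⟨⟨w, hw, hy⟩, hyr⟩
    refine ⟨⟨v + fun i => w (x.right⁻¹ i), ?_, ?_⟩, Subgroup.mul_mem _ hxr hyr⟩
    · simp only [Pi.add_apply, Finset.sum_add_distrib, hv, zero_add]
      rw [Equiv.sum_comp (x.right⁻¹) w, hw]
    · rw [SemidirectProduct.mul_left, hx, hy, sfPhi_cut, sfCut_add]
  inv_mem' := by
    rintro x ⟨⟨v, hv, hx⟩, hxr⟩
    refine ⟨⟨fun i => v (x.right i), ?_, ?_⟩, Subgroup.inv_mem _ hxr⟩
    · rw [Equiv.sum_comp x.right v, hv]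
    · rw [SemidirectProduct.inv_left, hx, sf_inv, sfPhi_cut, inv_inv]

theorem sf_mem_H1 (x : SfBig) : x ∈ sfH1 ↔
    (∃ v : Fin 8 → ZMod 2, ∑ i, v i = 0 ∧ x.left = sfCut v) ∧
      x.right ∈ alternatingGroup (Fin 8) := Iff.rfl

instance sfBig_finite : Finite SfBig := Finite.of_equiv _ SemidirectProduct.equivProd.symm

/-- The projection to `S_8`. -/
def sfPi : sfH1 →* Equiv.Perm (Fin 8) := SemidirectProduct.rightHom.comp sfH1.subtype

theorem sfPi_apply (x : sfH1) : sfPi x = (x : SfBig).right := rfl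

theorem sfPi_ker_sq (x : sfH1) (hx : x ∈ sfPi.ker) : x ^ 2 = 1 := by
  have h1 : (x : SfBig).right = 1 := hx
  apply Subtype.ext
  rw [Subgroup.coe_pow, Subgroup.coe_one, pow_two]
  apply SemidirectProduct.ext
  · rw [SemidirectProduct.mul_left, h1, map_one, MulAut.one_apply, sf_sq]
    rfl
  · rw [SemidirectProduct.mul_right, h1, mul_one]
    rfl

set_option synthInstance.maxSize 4096 in
set_option synthInstance.maxHeartbeats 400000 in
theorem sf_core7 : ∀ a0 a1 a2 a3 a4 a5 a6 a7 : ZMod 2,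
    a0 + a1 + a2 + a3 + a4 + a5 + a6 + a7 = 0 → a1 + a7 = a0 + a7 → a2 + a7 = a1 + a7 →
    a3 + a7 = a2 + a7 → a4 + a7 = a3 + a7 → a5 + a7 = a4 + a7 → a6 + a7 = a5 + a7 →
    (a1 = a0 ∧ a2 = a0 ∧ a3 = a0 ∧ a4 = a0 ∧ a5 = a0 ∧ a6 = a0 ∧ a7 = a0) := by decide

set_option synthInstance.maxSize 4096 in
set_option synthInstance.maxHeartbeats 400000 in
theorem sf_core53 : ∀ a0 a1 a2 a3 a4 a5 a6 a7 : ZMod 2,
    a0 + a1 + a2 + a3 + a4 + a5 + a6 + a7 = 0 → a2 + a1 = a1 + a0 → a3 + a1 = a2 + a0 →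
    a4 + a1 = a3 + a0 → a0 + a1 = a4 + a0 → a6 + a1 = a5 + a0 → a7 + a1 = a6 + a0 →
    a5 + a1 = a7 + a0 →
    (a1 = a0 ∧ a2 = a0 ∧ a3 = a0 ∧ a4 = a0 ∧ a5 = a0 ∧ a6 = a0 ∧ a7 = a0) := by decide

/-- An even vector whose cut is invariant under the standard `7`-cycle is constant. -/
theorem sf_fixed_c7 (u : Fin 8 → ZMod 2) (hu : ∑ i, u i = 0)
    (hinv : ∀ i j, u (sfC7 i) + u (sfC7 j) = u i + u j) : ∀ i, u i = u 0 := by
  have e0 : sfC7 0 = 1 := by decide
  have e1 : sfC7 1 = 2 := by decide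
  have e2 : sfC7 2 = 3 := by decide
  have e3 : sfC7 3 = 4 := by decide
  have e4 : sfC7 4 = 5 := by decide
  have e5 : sfC7 5 = 6 := by decide
  have e7 : sfC7 7 = 7 := by decide
  rw [Fin.sum_univ_eight] at hu
  have h0 := hinv 0 7
  have h1 := hinv 1 7
  have h2 := hinv 2 7
  have h3 := hinv 3 7
  have h4 := hinv 4 7
  have h5 := hinv 5 7
  rw [e0, e7] at h0
  rw [e1, e7] at h1
  rw [e2, e7] at h2
  rw [e3, e7] at h3
  rw [e4, e7] at h4
  rw [e5, e7] at h5
  obtain ⟨k1, k2, k3, k4, k5, k6, k7⟩ := sf_core7 _ _ _ _ _ _ _ _ hu h0 h1 h2 h3 h4 h5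
  intro i
  fin_cases i
  · rfl
  · exact k1
  · exact k2
  · exact k3
  · exact k4
  · exact k5
  · exact k6
  · exact k7

/-- An even vector whose cut is invariant under the standard element of type `(5, 3)` is
constant. -/
theorem sf_fixed_c53 (u : Fin 8 → ZMod 2) (hu : ∑ i, u i = 0)
    (hinv : ∀ i j, u (sfC53 i) + u (sfC53 j) = u i + u j) : ∀ i, u i = u 0 := by
  have e0 : sfC53 0 = 1 := by decide
  have e1 : sfC53 1 = 2 := by decide
  have e2 : sfC53 2 = 3 := by decide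
  have e3 : sfC53 3 = 4 := by decide
  have e4 : sfC53 4 = 0 := by decide
  have e5 : sfC53 5 = 6 := by decide
  have e6 : sfC53 6 = 7 := by decide
  have e7 : sfC53 7 = 5 := by decide
  rw [Fin.sum_univ_eight] at hu
  have h1 := hinv 1 0
  have h2 := hinv 2 0
  have h3 := hinv 3 0
  have h4 := hinv 4 0
  have h5 := hinv 5 0
  have h6 := hinv 6 0
  have h7 := hinv 7 0
  rw [e1, e0] at h1
  rw [e2, e0] at h2
  rw [e3, e0] at h3
  rw [e4, e0] at h4
  rw [e5, e0] at h5
  rw [e6, e0] at h6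
  rw [e7, e0] at h7
  obtain ⟨k1, k2, k3, k4, k5, k6, k7⟩ := sf_core53 _ _ _ _ _ _ _ _ hu h1 h2 h3 h4 h5 h6 h7
  intro i
  fin_cases i
  · rfl
  · exact k1
  · exact k2
  · exact k3
  · exact k4
  · exact k5
  · exact k6
  · exact k7

/-- Fixed cuts under a conjugate of a permutation with the constancy property are trivial. -/
theorem sf_fixed (c : Equiv.Perm (Fin 8))
    (hc : ∀ u : Fin 8 → ZMod 2, ∑ i, u i = 0 →
      (∀ i j, u (c i) + u (c j) = u i + u j) → ∀ i, u i = u 0)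
    (g h : Equiv.Perm (Fin 8)) (hg : h * c * h⁻¹ = g) (u : Fin 8 → ZMod 2)
    (hu : ∑ i, u i = 0) (hfix : sfPhi g (sfCut u) = sfCut u) : sfCut u = 1 := by
  have h1 : ∀ i j, u (g⁻¹ i) + u (g⁻¹ j) = u i + u j := by
    intro i j
    have := congrFun hfix (i, j)
    rw [sfPhi_apply, sfCut_apply, sfCut_apply] at this
    exact Multiplicative.ofAdd.injective this
  have h2 : ∀ i j, u (g i) + u (g j) = u i + u j := by
    intro i j
    have e : ∀ k, g⁻¹ (g k) = k := fun k => by simp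
    have := h1 (g i) (g j)
    rw [e, e] at this
    exact this.symm
  have hgh : ∀ i, h (c i) = g (h i) := by
    intro i
    rw [← hg]
    simp
  have h3 : ∀ i, u (h i) = u (h 0) := by
    apply hc (fun i => u (h i))
    · rw [Equiv.sum_comp h u, hu]
    · intro i j
      show u (h (c i)) + u (h (c j)) = u (h i) + u (h j)
      rw [hgh, hgh, h2]
  have h4 : ∀ i, u i = u (h 0) := by
    intro i
    have := h3 (h⁻¹ i)
    simpa using this
  funext p
  rw [sfCut_apply, h4 p.1, h4 p.2]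
  have hchar : ∀ a : ZMod 2, a + a = 0 := by decide
  rw [hchar]
  rfl

/-- Over a conjugate of a permutation with the constancy property, an element of `sfH1` has
the order of its image. -/
theorem sf_pow_eq_one (c : Equiv.Perm (Fin 8))
    (hc : ∀ u : Fin 8 → ZMod 2, ∑ i, u i = 0 →
      (∀ i j, u (c i) + u (c j) = u i + u j) → ∀ i, u i = u 0)
    (x : SfBig) (hx : x ∈ sfH1) (h : Equiv.Perm (Fin 8)) (hg : h * c * h⁻¹ = x.right)
    (n : ℕ) (hn : x.right ^ n = 1) : x ^ n = 1 := by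
  have hy : x ^ n ∈ sfH1 := Subgroup.pow_mem _ hx n
  obtain ⟨⟨v, hv, hvl⟩, -⟩ := (sf_mem_H1 _).mp hy
  have hr : (x ^ n).right = 1 := by
    have : (x ^ n).right = x.right ^ n := map_pow SemidirectProduct.rightHom x n
    rw [this, hn]
  have hcomm : x * x ^ n = x ^ n * x := by
    rw [← pow_succ', ← pow_succ]
  have hl := congrArg SemidirectProduct.left hcomm
  rw [SemidirectProduct.mul_left, SemidirectProduct.mul_left, hr, map_one, MulAut.one_apply,
    mul_comm (x ^ n).left x.left] at hl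
  have hfix : sfPhi x.right (x ^ n).left = (x ^ n).left := mul_left_cancel hl
  rw [hvl] at hfix
  have h1 := sf_fixed c hc x.right h hg v hv hfix
  apply SemidirectProduct.ext
  · rw [hvl, h1]; rfl
  · rw [hr]; rfl

end Cfsg.Agent.Helper78
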