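import Mathlib
import Cfsg.Agent.Helper78.SpecFamC

/-!
# An infinite family of groups with the element orders of `S_8`

`spec_family`: for every `N` there is a finite group of order `> N` whose set of element orders is
`{1, 2, 3, 4, 5, 6, 7, 8, 10, 12, 15}` (fibre powers of `2^6 : A_8`).
-/

set_option autoImplicit false

namespace Cfsg.Agent.Helper78

open Equiv

/-- Element orders of `2^6 : A_8` lie in the spectrum of `S_8`. -/
theorem sf_H1_orderOf_mem (x : sfH1) :
    orderOf x ∈ ({1, 2, 3, 4, 5, 6, 7, 8, 10, 12, 15} : Set ℕ) := by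
  have hd := sf_orderOf_dvd sfPi sfPi_ker_sq x
  have hxmem : (x : SfBig) ∈ sfH1 := x.2
  have halt : sfPi x ∈ alternatingGroup (Fin 8) := ((sf_mem_H1 _).mp hxmem).2
  rcases sf_alt_cases (sfPi x) halt with h | h | h
  · have hcase : orderOf x = orderOf (sfPi x) ∨ orderOf x = 2 * orderOf (sfPi x) := by
      by_cases hdv : orderOf x ∣ orderOf (sfPi x)
      · left; exact Nat.dvd_antisymm hdv hd.1
      · right; exact sf_eq_two_mul hd.1 hd.2 hdv
    simp only [Set.mem_insert_iff, Set.mem_singleton_iff] at h ⊢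
    rcases h with h | h | h | h | h | h <;> rw [h] at hcase <;>
      rcases hcase with hc | hc <;> rw [hc] <;> simp
  · obtain ⟨c, hc⟩ := sf_conj_c7 (sfPi x) h
    have ho := sf_orderOf_of_c7 _ h
    have hpow : (x : SfBig) ^ 7 = 1 :=
      sf_pow_eq_one sfC7 sf_fixed_c7 x hxmem c hc 7
        (by rw [← sfPi_apply, ← ho, pow_orderOf_eq_one])
    have h1 : orderOf x ∣ 7 := by
      apply orderOf_dvd_of_pow_eq_one
      apply Subtype.ext
      rw [Subgroup.coe_pow, hpow]; rfl
    have h2 : 7 ∣ orderOf x := by rw [← ho]; exact hd.1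
    have : orderOf x = 7 := Nat.dvd_antisymm h1 h2
    rw [this]; simp
  · obtain ⟨c, hc⟩ := sf_conj_c53 (sfPi x) h
    have ho := sf_orderOf_of_c53 _ h
    have hpow : (x : SfBig) ^ 15 = 1 :=
      sf_pow_eq_one sfC53 sf_fixed_c53 x hxmem c hc 15
        (by rw [← sfPi_apply, ← ho, pow_orderOf_eq_one])
    have h1 : orderOf x ∣ 15 := by
      apply orderOf_dvd_of_pow_eq_one
      apply Subtype.ext
      rw [Subgroup.coe_pow, hpow]; rfl
    have h2 : 15 ∣ orderOf x := by rw [← ho]; exact hd.1
    have : orderOf x = 15 := Nat.dvd_antisymm h1 h2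
    rw [this]; simp

theorem sf_inr_mem (g : Equiv.Perm (Fin 8)) (hg : g ∈ alternatingGroup (Fin 8)) :
    (SemidirectProduct.inr g : SfBig) ∈ sfH1 :=
  ⟨⟨0, by simp, by simp [sfCut_zero]⟩, hg⟩

/-- Orders of even permutations occur in `2^6 : A_8`. -/
theorem sf_range_of_alt (g : Equiv.Perm (Fin 8)) (hg : Equiv.Perm.sign g = 1) (n : ℕ)
    (hn : 0 < n) (h1 : g ^ n = 1) (h2 : ∀ m < n, 0 < m → g ^ m ≠ 1) :
    n ∈ Set.range (orderOf : sfH1 → ℕ) := by
  refine ⟨⟨SemidirectProduct.inr g, sf_inr_mem g (Equiv.Perm.mem_alternatingGroup.mpr hg)⟩, ?_⟩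
  rw [Subgroup.orderOf_mk,
    orderOf_injective (SemidirectProduct.inr : Equiv.Perm (Fin 8) →* SfBig)
      SemidirectProduct.inr_injective g]
  exact (orderOf_eq_iff hn).mpr ⟨h1, h2⟩

/-- Twice the order of an even permutation occurs as soon as some lift has a nontrivial
power. -/
theorem sf_range_of_lift (g : Equiv.Perm (Fin 8)) (hg : Equiv.Perm.sign g = 1) (n : ℕ)
    (hn : 0 < n) (h1 : g ^ n = 1) (h2 : ∀ m < n, 0 < m → g ^ m ≠ 1)
    (v : Fin 8 → ZMod 2) (hv : ∑ i, v i = 0)
    (hne : (⟨sfCut v, g⟩ : SfBig) ^ n ≠ 1) :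
    2 * n ∈ Set.range (orderOf : sfH1 → ℕ) := by
  have hmem : (⟨sfCut v, g⟩ : SfBig) ∈ sfH1 :=
    ⟨⟨v, hv, rfl⟩, Equiv.Perm.mem_alternatingGroup.mpr hg⟩
  refine ⟨⟨_, hmem⟩, ?_⟩
  have hd := sf_orderOf_dvd sfPi sfPi_ker_sq ⟨_, hmem⟩
  have ho : orderOf (sfPi ⟨_, hmem⟩) = n := (orderOf_eq_iff hn).mpr ⟨h1, h2⟩
  rw [ho] at hd
  apply sf_eq_two_mul hd.1 hd.2
  intro hdv
  apply hne
  have := orderOf_dvd_iff_pow_eq_one.mp hdv
  have h3 := congrArg (Subtype.val) this
  rw [Subgroup.coe_pow] at h3
  exact h3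

/-- The vector with support `{a, b}`. -/
def sfVec (a b : Fin 8) : Fin 8 → ZMod 2 := fun i => if i = a ∨ i = b then 1 else 0

set_option maxRecDepth 100000 in
/-- The element orders of `2^6 : A_8`. -/
theorem sf_H1_range : Set.range (orderOf : sfH1 → ℕ) =
    ({1, 2, 3, 4, 5, 6, 7, 8, 10, 12, 15} : Set ℕ) := by
  apply Set.Subset.antisymm
  · rintro _ ⟨x, rfl⟩
    exact sf_H1_orderOf_mem x
  · intro k hk
    simp only [Set.mem_insert_iff, Set.mem_singleton_iff] at hk
    rcases hk with rfl | rfl | rfl | rfl | rfl | rfl | rfl | rfl | rfl | rfl | rfl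
    · exact ⟨1, orderOf_one⟩
    · exact sf_range_of_alt (List.formPerm [0, 1] * List.formPerm [2, 3]) (by decide) 2
        (by norm_num) (by decide) (by decide)
    · exact sf_range_of_alt (List.formPerm [0, 1, 2]) (by decide) 3
        (by norm_num) (by decide) (by decide)
    · exact sf_range_of_alt (List.formPerm [0, 1, 2, 3] * List.formPerm [4, 5]) (by decide) 4
        (by norm_num) (by decide) (by decide)
    · exact sf_range_of_alt (List.formPerm [0, 1, 2, 3, 4]) (by decide) 5
        (by norm_num) (by decide) (by decide)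
    · exact sf_range_of_alt (List.formPerm [0, 1, 2] * List.formPerm [3, 4] * List.formPerm [5, 6])
        (by decide) 6 (by norm_num) (by decide) (by decide)
    · exact sf_range_of_alt (List.formPerm [0, 1, 2, 3, 4, 5, 6]) (by decide) 7
        (by norm_num) (by decide) (by decide)
    · exact sf_range_of_lift (List.formPerm [0, 1, 2, 3] * List.formPerm [4, 5]) (by decide) 4
        (by norm_num) (by decide) (by decide) (sfVec 0 4) (by decide)
        (fun h => by
          have := congrArg (fun y : SfBig => y.left (0, 4)) h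
          revert this
          decide)
    · exact sf_range_of_lift (List.formPerm [0, 1, 2, 3, 4]) (by decide) 5
        (by norm_num) (by decide) (by decide) (sfVec 5 6) (by decide)
        (fun h => by
          have := congrArg (fun y : SfBig => y.left (5, 7)) h
          revert this
          decide)
    · exact sf_range_of_lift
        (List.formPerm [0, 1, 2] * List.formPerm [3, 4] * List.formPerm [5, 6]) (by decide) 6
        (by norm_num) (by decide) (by decide) (sfVec 3 7) (by decide)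
        (fun h => by
          have := congrArg (fun y : SfBig => y.left (3, 7)) h
          revert this
          decide)
    · exact sf_range_of_alt (List.formPerm [0, 1, 2, 3, 4] * List.formPerm [5, 6, 7]) (by decide)
        15 (by norm_num) (by decide) (by decide)

/-- **An infinite family with the spectrum of `S_8`.**  For every `N` there is a finite group
of order greater than `N` whose set of element orders is `{1, 2, 3, 4, 5, 6, 7, 8, 10, 12, 15}`. -/
theorem spec_family (N : ℕ) : ∃ (H : Type) (_ : Group H) (_ : Fintype H),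
    N < Fintype.card H ∧
      Set.range (orderOf : H → ℕ) = ({1, 2, 3, 4, 5, 6, 7, 8, 10, 12, 15} : Set ℕ) := by
  classical
  have hfin : Finite (sfFib sfPi (N + 1)) := Subtype.finite
  have hzmem : (⟨sfCut (sfVec 0 1), 1⟩ : SfBig) ∈ sfH1 :=
    ⟨⟨sfVec 0 1, by decide, rfl⟩, Subgroup.one_mem _⟩
  have hz1 : (⟨⟨sfCut (sfVec 0 1), 1⟩, hzmem⟩ : sfH1) ≠ 1 := by
    intro h
    have h' := congrArg (fun y : sfH1 => (y : SfBig).left (0, 2)) h
    have h'' : sfCut (sfVec 0 1) (0, 2) = 1 := h'
    revert h''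
    decide
  have hzker : (⟨⟨sfCut (sfVec 0 1), 1⟩, hzmem⟩ : sfH1) ∈ sfPi.ker := rfl
  refine ⟨sfFib sfPi (N + 1), inferInstance, Fintype.ofFinite _, ?_, ?_⟩
  · rw [Fintype.card_eq_nat_card]
    have := sf_card_lt sfPi _ hzker hz1 (N + 1)
    omega
  · rw [sf_range_orderOf sfPi sfPi_ker_sq N, sf_H1_range]

end Cfsg.Agent.Helper78
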