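-- helper78 library: piece S1 of CALL S5637 (helper71).
import Mathlib
import Cfsg.Agent.Helper71.T4Defs

set_option autoImplicit false

namespace Cfsg.Agent.Helper78.T4S1

open Matrix Cfsg.Agent.Helper71.T4
open scoped Kronecker

variable {F : Type*} [Field F] {a b : ℕ}

theorem comm_sq_zero {R : Type*} [Ring R] (A B : R) (hA : A * A = 0) (hB : B * B = 0)
    (hAB : A * B = 0) : (1 + A) * (1 + B) * (1 - A) * (1 - B) = 1 - B * A := by
  have e : (1 + A) * (1 + B) * (1 - A) * (1 - B) = 1 - B * A +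
      (A * B - A * A - A * B * A - B * B - A * B * B + A * A * B + B * (A * B) +
        A * B * (A * B)) := by noncomm_ring
  rw [e, hA, hB, hAB]
  simp

theorem comm_sq_zero' {R : Type*} [Ring R] (A B : R) (hA : A * A = 0) (hB : B * B = 0)
    (hBA : B * A = 0) : (1 + A) * (1 + B) * (1 - A) * (1 - B) = 1 + A * B := by
  have e : (1 + A) * (1 + B) * (1 - A) * (1 - B) = 1 + A * B +
      (- (A * A) - B * A - A * (B * A) - B * B - A * (B * B) + A * A * B + B * A * B +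
        A * (B * A) * B) := by noncomm_ring
  rw [e, hA, hB, hBA]
  simp

theorem one_add_mul_one_sub {R : Type*} [Ring R] (A : R) (hA : A * A = 0) :
    (1 + A) * (1 - A) = 1 := by
  have e : (1 + A) * (1 - A) = 1 - A * A := by noncomm_ring
  rw [e, hA, sub_zero]

theorem root_sq (w β : Fin b → F) (h : β ⬝ᵥ w = 0) :
    ((1 : Matrix (Fin a) (Fin a) F) ⊗ₖ vecMulVec w β) *
      ((1 : Matrix (Fin a) (Fin a) F) ⊗ₖ vecMulVec w β) = 0 := by
  rw [← Matrix.mul_kronecker_mul, vecMulVec_sq w β h, Matrix.kronecker_zero]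

theorem root_mul_root (w₁ β₁ w₂ β₂ : Fin b → F) (h : β₁ ⬝ᵥ w₂ = 0) :
    ((1 : Matrix (Fin a) (Fin a) F) ⊗ₖ vecMulVec w₁ β₁) *
      ((1 : Matrix (Fin a) (Fin a) F) ⊗ₖ vecMulVec w₂ β₂) = 0 := by
  rw [← Matrix.mul_kronecker_mul, Matrix.vecMulVec_mul_vecMulVec, h, zero_smul]
  ext ⟨i, k⟩ ⟨j, l⟩
  simp

theorem comm_step (M : Subgroup (GL (Fin a × Fin b) F)) (hS : HasS M)
    (x : GL (Fin a × Fin b) F) (hx : x ∈ M) (β w' : Fin b → F)
    (h0 : blk ((x⁻¹ : GL (Fin a × Fin b) F) : Matrix (Fin a × Fin b) (Fin a × Fin b) F) β w' = 0)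
    (w β' w'' β'' : Fin b → F) (h1 : β ⬝ᵥ w = 0) (h2 : β' ⬝ᵥ w' = 0) (h3 : β'' ⬝ᵥ w' = 0)
    (h4 : β'' ⬝ᵥ w'' = 0) :
    InM M (1 - (blk (x : Matrix (Fin a × Fin b) (Fin a × Fin b) F) β' w *
      blk ((x⁻¹ : GL (Fin a × Fin b) F) : Matrix (Fin a × Fin b) (Fin a × Fin b) F) β w'') ⊗ₖ
        vecMulVec w' β'') := by
  set X : Matrix (Fin a × Fin b) (Fin a × Fin b) F :=
    ((x : GL (Fin a × Fin b) F) : Matrix (Fin a × Fin b) (Fin a × Fin b) F) with hX
  set Xi : Matrix (Fin a × Fin b) (Fin a × Fin b) F :=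
    ((x⁻¹ : GL (Fin a × Fin b) F) : Matrix (Fin a × Fin b) (Fin a × Fin b) F) with hXi
  have hXXi : X * Xi = 1 := by
    rw [hX, hXi, ← Units.val_mul, mul_inv_cancel, Units.val_one]
  have hXiX : Xi * X = 1 := by
    rw [hX, hXi, ← Units.val_mul, inv_mul_cancel, Units.val_one]
  set E1 : Matrix (Fin a × Fin b) (Fin a × Fin b) F :=
    (1 : Matrix (Fin a) (Fin a) F) ⊗ₖ vecMulVec w β with hE1
  set N2 : Matrix (Fin a × Fin b) (Fin a × Fin b) F :=
    (1 : Matrix (Fin a) (Fin a) F) ⊗ₖ vecMulVec w' β' with hN2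
  set N4 : Matrix (Fin a × Fin b) (Fin a × Fin b) F :=
    (1 : Matrix (Fin a) (Fin a) F) ⊗ₖ vecMulVec w'' β'' with hN4
  have hE1sq : E1 * E1 = 0 := root_sq w β h1
  have hN2sq : N2 * N2 = 0 := root_sq w' β' h2
  have hN4sq : N4 * N4 = 0 := root_sq w'' β'' h4
  have hN42 : N4 * N2 = 0 := root_mul_root w'' β'' w' β' h3
  have hN1sq : (X * E1 * Xi) * (X * E1 * Xi) = 0 := by
    have e : (X * E1 * Xi) * (X * E1 * Xi) = X * E1 * (Xi * X) * E1 * Xi := by
      simp only [Matrix.mul_assoc]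
    rw [e, hXiX, Matrix.mul_one, Matrix.mul_assoc X E1 E1, hE1sq, Matrix.mul_zero,
      Matrix.zero_mul]
  have hN12 : (X * E1 * Xi) * N2 = 0 := by
    have e : (X * E1 * Xi) * N2 = X * (E1 * Xi * N2) := by simp only [Matrix.mul_assoc]
    rw [e, hE1, hN2, kron_vmv_mul, h0, Matrix.zero_kronecker, Matrix.mul_zero]
  -- membership of the factors
  have m1 : InM M (1 + X * E1 * Xi) := by
    have e : 1 + X * E1 * Xi = X * (1 + E1) * Xi := by
      rw [Matrix.mul_add, Matrix.add_mul, Matrix.mul_one, hXXi]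
    rw [e]
    exact ((inM_of_mem hx).mul (root_inM M hS w β h1)).mul (inM_of_mem (M.inv_mem hx))
  have m1' : InM M (1 - X * E1 * Xi) := m1.inv (one_add_mul_one_sub _ hN1sq)
  have m2 : InM M (1 + N2) := root_inM M hS w' β' h2
  have m2' : InM M (1 - N2) := m2.inv (one_add_mul_one_sub _ hN2sq)
  have m4 : InM M (1 + N4) := root_inM M hS w'' β'' h4
  have m4' : InM M (1 - N4) := m4.inv (one_add_mul_one_sub _ hN4sq)
  -- the first commutator
  have hAsq : (-(N2 * (X * E1 * Xi))) * (-(N2 * (X * E1 * Xi))) = 0 := by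
    have e : (-(N2 * (X * E1 * Xi))) * (-(N2 * (X * E1 * Xi)))
        = N2 * ((X * E1 * Xi) * N2) * (X * E1 * Xi) := by
      rw [neg_mul_neg]
      simp only [Matrix.mul_assoc]
    rw [e, hN12, Matrix.mul_zero, Matrix.zero_mul]
  have m3 : InM M (1 + -(N2 * (X * E1 * Xi))) := by
    have e := comm_sq_zero (X * E1 * Xi) N2 hN1sq hN2sq hN12
    rw [← sub_eq_add_neg, ← e]
    exact ((m1.mul m2).mul m1').mul m2'
  have m3' : InM M (1 - -(N2 * (X * E1 * Xi))) := m3.inv (one_add_mul_one_sub _ hAsq)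
  -- the second commutator
  have hBA : N4 * (-(N2 * (X * E1 * Xi))) = 0 := by
    rw [mul_neg, ← Matrix.mul_assoc, hN42, Matrix.zero_mul, neg_zero]
  have e2 := comm_sq_zero' (-(N2 * (X * E1 * Xi))) N4 hAsq hN4sq hBA
  have m5 := ((m3.mul m4).mul m3').mul m4'
  rw [e2] at m5
  have e3 : (-(N2 * (X * E1 * Xi))) * N4 = -((blk X β' w * blk Xi β w'') ⊗ₖ vecMulVec w' β'') := by
    rw [neg_mul, hN2, hN4, kron_vmv_mul, hE1, blk_mul_vmv_mul]
  rw [e3, ← sub_eq_add_neg] at m5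
  exact m5

end Cfsg.Agent.Helper78.T4S1
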