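-- helper78 library: piece COMB3 of CALL S5981 (helper98), double.
import Mathlib

set_option autoImplicit false

namespace Cfsg.Agent.Helper78.THCOMB3

/-- COMB3 -/
theorem comb_three (a : Fin 3 → ZMod 3) (h : ∑ i, a i = 0) :
    ∃ σ : Equiv.Perm (Fin 3), a (σ 1) + a (σ 2) = 2 * a (σ 0) := by
  refine ⟨1, ?_⟩
  rw [Fin.sum_univ_three] at h
  simp only [Equiv.Perm.one_apply]
  have h3 : (3 : ZMod 3) = 0 := by decide
  linear_combination h - a 0 * h3

end Cfsg.Agent.Helper78.THCOMB3
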