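import Mathlib
import Cfsg.Prelude.Def_ParabolicCharacters

/-!
Piece T1A of CALL S2314 (helper40, skeleton `UCSkel`): double count of (p-element, fixed coset).
-/

set_option autoImplicit false

namespace Cfsg.Agent.Helper78.UCT1A

open Classical in
/-- the number of elements of prime power order stabilising a coset -/
theorem card_pelts_stab {X : Type*} [Group X] [Fintype X] (H : Subgroup X) (p : ℕ) (g : X) :
    Nat.card {x : X // (∃ k : ℕ, orderOf x = p ^ k) ∧ x • (g : X ⧸ H) = (g : X ⧸ H)} =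
      Nat.card {h : X // h ∈ H ∧ ∃ k : ℕ, orderOf h = p ^ k} := by
  let e : X ≃ X := ⟨fun x => g⁻¹ * x * g, fun y => g * y * g⁻¹, fun x => by group, fun y => by group⟩
  refine Nat.card_congr (Equiv.subtypeEquiv e ?_)
  intro x
  have ho : orderOf (g⁻¹ * x * g) = orderOf x := by
    have h1 := orderOf_injective (MulAut.conj g⁻¹).toMonoidHom (MulAut.conj g⁻¹).injective x
    simpa using h1
  have hmem : x • (g : X ⧸ H) = (g : X ⧸ H) ↔ g⁻¹ * x * g ∈ H := by
    rw [MulAction.Quotient.smul_mk, QuotientGroup.eq, smul_eq_mul, mul_inv_rev]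
    constructor
    · intro h
      have h2 := H.inv_mem h
      have e2 : (g⁻¹ * x⁻¹ * g)⁻¹ = g⁻¹ * x * g := by group
      rwa [e2] at h2
    · intro h
      have h2 := H.inv_mem h
      have e2 : (g⁻¹ * x * g)⁻¹ = g⁻¹ * x⁻¹ * g := by group
      rwa [e2] at h2
  show (∃ k : ℕ, orderOf x = p ^ k) ∧ x • (g : X ⧸ H) = (g : X ⧸ H) ↔
    g⁻¹ * x * g ∈ H ∧ ∃ k : ℕ, orderOf (g⁻¹ * x * g) = p ^ k
  rw [ho, hmem]
  exact And.comm

open Classical in
/-- T1A (pure Mathlib): double count of (p-element, fixed coset). -/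
theorem sum_fpc_pelts {X : Type*} [Group X] [Fintype X] (H : Subgroup X) (p : ℕ) :
    (∑ x : X, if (∃ k : ℕ, orderOf x = p ^ k) then Cfsg.fixedPointCharacter H x else 0) =
      (H.index : ℂ) * (Nat.card {h : X // h ∈ H ∧ ∃ k : ℕ, orderOf h = p ^ k} : ℂ) := by
  have hfix : ∀ x : X, Cfsg.fixedPointCharacter H x =
      ∑ c : X ⧸ H, if x • c = c then (1 : ℂ) else 0 := by
    intro x
    have h1 : Cfsg.fixedPointCharacter H x = (Nat.card {c : X ⧸ H // x • c = c} : ℂ) := rfl
    rw [h1, Finset.sum_boole, Nat.card_eq_fintype_card, Fintype.card_subtype]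
  have hsw : (∑ x : X, if (∃ k : ℕ, orderOf x = p ^ k) then Cfsg.fixedPointCharacter H x else 0) =
      ∑ c : X ⧸ H, ∑ x : X,
        if ((∃ k : ℕ, orderOf x = p ^ k) ∧ x • c = c) then (1 : ℂ) else 0 := by
    rw [Finset.sum_comm]
    refine Finset.sum_congr rfl (fun x _ => ?_)
    rw [hfix x]
    by_cases hx : ∃ k : ℕ, orderOf x = p ^ k
    · rw [if_pos hx]
      refine Finset.sum_congr rfl (fun c _ => ?_)
      by_cases hc : x • c = c
      · rw [if_pos hc, if_pos ⟨hx, hc⟩]
      · rw [if_neg hc, if_neg (fun h => hc h.2)]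
    · rw [if_neg hx]
      symm
      apply Finset.sum_eq_zero
      intro c _
      rw [if_neg (fun h => hx h.1)]
  have hin : ∀ c : X ⧸ H, (∑ x : X,
        if ((∃ k : ℕ, orderOf x = p ^ k) ∧ x • c = c) then (1 : ℂ) else 0) =
      (Nat.card {h : X // h ∈ H ∧ ∃ k : ℕ, orderOf h = p ^ k} : ℂ) := by
    intro c
    induction c using QuotientGroup.induction_on with
    | H g =>
      rw [Finset.sum_boole, ← card_pelts_stab H p g, Nat.card_eq_fintype_card,
        Fintype.card_subtype]
  rw [hsw, Finset.sum_congr rfl (fun c _ => hin c), Finset.sum_const, Finset.card_univ,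
    nsmul_eq_mul, Subgroup.index_eq_card, Nat.card_eq_fintype_card (α := X ⧸ H)]

end Cfsg.Agent.Helper78.UCT1A
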